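import Cfsg.Agent.Lib.Fi22Loc.Member.Trans
import Cfsg.Agent.Lib.Fi22Loc.Rec.Switch

/-!
The members form a class with a chart at each: the derived centraliser is the double cover of the unitary group and
the other members of a centraliser are its transvection lifts.
-/

set_option autoImplicit false
set_option linter.unusedSectionVars false
set_option synthInstance.maxSize 1024

namespace CfsgLib.Fi22Loc

open CfsgLib.U6Three (V2 SL23 det2 app2)
open CfsgThreeTrans.M22 (tu)

universe u

/-- Derived centralisers are moved by automorphisms. -/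
theorem LC_map {G : Type u} [Group G] (φ : G ≃* G) (a g : G) : φ g ∈ Rec.LC (φ a) ↔ g ∈ Rec.LC a := by
  have key : ∀ (φ : G ≃* G) (a g : G), g ∈ Rec.LC a → φ g ∈ Rec.LC (φ a) := by
    intro φ a g hg
    obtain ⟨c, hc, rfl⟩ := hg
    let τ : ↥(Subgroup.centralizer ({a} : Set G)) →* ↥(Subgroup.centralizer ({φ a} : Set G)) :=
      (φ.toMonoidHom.comp (Subgroup.subtype _)).codRestrict _ fun x =>
        Subgroup.mem_centralizer_singleton_iff.mpr (by
          show φ x * φ a = φ a * φ x
          rw [← map_mul, ← map_mul, Subgroup.mem_centralizer_singleton_iff.mp x.2])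
    refine ⟨τ c, ?_, rfl⟩
    have h1 : τ c ∈ (commutator ↥(Subgroup.centralizer ({a} : Set G))).map τ := ⟨c, hc, rfl⟩
    rw [commutator_def, Subgroup.map_commutator] at h1
    rw [commutator_def]
    exact Subgroup.commutator_mono le_top le_top h1
  refine ⟨fun h => ?_, key φ a g⟩
  have := key φ.symm _ _ h
  rwa [φ.symm_apply_apply, φ.symm_apply_apply] at this

/-- A chart moved by an automorphism preserving the class. -/
theorem chart_map {G : Type u} [Group G] {E : Set G} {F : Type} [Field F] [Fintype F] [DecidableEq F]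
    {hF : Fintype.card F = 2 ^ 2} {a b : G} (A : Rec.Chart E hF a) (φ : G ≃* G) (hab : φ a = b)
    (hφ : ∀ y, φ y ∈ E ↔ y ∈ E) : Nonempty (Rec.Chart E hF b) := by
  subst hab
  let τ : ↥(Rec.LC (φ a)) ≃* ↥(Rec.LC a) :=
    { toFun := fun g => ⟨φ.symm g, (LC_map φ a _).mp (by rw [φ.apply_symm_apply]; exact g.2)⟩
      invFun := fun g => ⟨φ g, (LC_map φ a _).mpr g.2⟩
      left_inv := fun g => Subtype.ext (φ.apply_symm_apply _)
      right_inv := fun g => Subtype.ext (φ.symm_apply_apply _)
      map_mul' := fun g g' => Subtype.ext (map_mul φ.symm _ _) }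
  have hτ : ∀ g, (τ g : G) = φ.symm g := fun g => rfl
  have mD : ∀ g, (τ g : G) ∈ E ↔ (g : G) ∈ E := fun g => by rw [hτ, ← hφ, φ.apply_symm_apply]
  have ma : ∀ g, (τ g : G) = a ↔ (g : G) = φ a := fun g => φ.symm_apply_eq
  exact ⟨{
    mem := (hφ a).mpr A.mem
    hne := fun e => A.hne (φ.injective (by rw [e, map_one]))
    hsq := by rw [← map_mul, A.hsq, map_one]
    ψ := A.ψ.comp τ.toMonoidHom
    sur := A.sur.comp τ.surjective
    ker := fun g => (A.ker (τ g)).trans (or_congr
      ⟨fun e => φ.symm.injective (by rw [map_one]; exact e), fun e => by rw [hτ, e, map_one]⟩ (ma g))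
    perfect := by
      refine Subgroup.map_injective (f := τ.toMonoidHom) τ.injective ?_
      rw [commutator_def, Subgroup.map_commutator, Subgroup.map_top_of_surjective _ τ.surjective, ← commutator_def,
        A.perfect]
    own := (LC_map φ a a).mpr A.own
    inC := fun y hy hc => by
      have h := A.inC (φ.symm y) ((hφ _).mp (by rwa [φ.apply_symm_apply]))
        (by simpa using hc.map φ.symm.toMonoidHom)
      have h' := (LC_map φ a _).mpr h
      rwa [φ.apply_symm_apply] at h'
    pt := fun y h1 h2 => A.pt (τ y) ((mD y).mpr h1) (fun e => h2 ((ma y).mp e))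
    lift := fun u => by
      obtain ⟨y, h1, h2, h3⟩ := A.lift u
      refine ⟨τ.symm y, ?_, ?_, ?_⟩
      · rw [← mD, τ.apply_symm_apply]; exact h1
      · intro e; rw [← ma, τ.apply_symm_apply] at e; exact h2 e
      · show A.ψ (τ (τ.symm y)) = _
        rw [τ.apply_symm_apply]; exact h3
    inj := fun y y' h1 h2 h1' h2' e => τ.injective (A.inj _ _ ((mD y).mpr h1) (fun q => h2 ((ma y).mp q))
      ((mD y').mpr h1') (fun q => h2' ((ma y').mp q)) e) }⟩

namespace Setting

variable {G : Type u} [Group G] (D : Setting G) [Finite G]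

/-- The class. -/
def Cls : Set G := {y | D.Mem y}

theorem lc_mem {g : G} : g ∈ Rec.LC D.tt ↔ ∃ h : g ∈ D.TC, (⟨g, h⟩ : D.TC) ∈ D.LL := by
  constructor
  · rintro ⟨c, hc, rfl⟩
    exact ⟨c.2, D.derived_eq.le hc⟩
  · rintro ⟨h, hL⟩
    exact ⟨⟨g, h⟩, D.derived_eq.ge hL, rfl⟩

/-- The derived centraliser as the preimage. -/
noncomputable def lcEquiv : ↥(Rec.LC D.tt) ≃* ↥D.LL where
  toFun g := ⟨⟨g, (D.lc_mem.mp g.2).1⟩, (D.lc_mem.mp g.2).2⟩
  invFun g := ⟨g.1, D.lc_mem.mpr ⟨g.1.2, g.2⟩⟩
  left_inv _ := rfl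
  right_inv _ := rfl
  map_mul' _ _ := rfl

/-- The restricted quotient map. -/
noncomputable def toUU : ↥D.LL →* ↥D.UU :=
  (D.mkT.comp D.LL.subtype).codRestrict D.UU fun g => g.2

theorem exists_local : ∃ (F : Type) (_ : Field F) (_ : Fintype F) (_ : DecidableEq F) (hF : Fintype.card F = 2 ^ 2),
    Rec.Local D.Cls hF := by
  classical
  obtain ⟨U⟩ := D.exists_udata
  let e : D.UU ≃* Cfsg.PSU 6 U.F 2 := U.e
  have inL : ∀ y, D.Mem y → Commute D.tt y → y ∈ Rec.LC D.tt := fun y hy hc => by
    refine D.lc_mem.mpr ⟨D.mem_TC.mpr hc.symm, ?_⟩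
    by_cases q : y = D.tt
    · subst q; exact D.tT_mem
    · exact (D.transv U (u := ⟨y, D.mem_TC.mpr hc.symm⟩) hy q).1
  let C0 : Rec.Chart D.Cls U.hF D.tt :=
    { mem := ⟨1, by group⟩
      hne := D.tt_ne
      hsq := D.tt_sq
      ψ := e.toMonoidHom.comp (D.toUU.comp D.lcEquiv.toMonoidHom)
      sur := fun x => by
        obtain ⟨g, hg⟩ := D.mk_surj (e.symm x : D.TC ⧸ D.NT)
        have hL : g ∈ D.LL := by show D.mkT g ∈ D.UU; rw [hg]; exact (e.symm x).2
        refine ⟨D.lcEquiv.symm ⟨g, hL⟩, ?_⟩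
        show e (D.toUU (D.lcEquiv (D.lcEquiv.symm ⟨g, hL⟩))) = x
        rw [MulEquiv.apply_symm_apply, show D.toUU ⟨g, hL⟩ = e.symm x from Subtype.ext hg, e.apply_symm_apply]
      ker := fun g => by
        show e (D.toUU (D.lcEquiv g)) = 1 ↔ _
        rw [MulEquiv.map_eq_one_iff]
        constructor
        · intro h
          have h' : D.mkT (D.lcEquiv g : D.TC) = D.mkT 1 := by rw [map_one]; exact congrArg Subtype.val h
          rcases D.mk_eq h'.symm with r | r
          · exact Or.inl r
          · exact Or.inr (r.trans (one_mul _))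
        · intro h
          exact Subtype.ext ((QuotientGroup.eq_one_iff _).mpr (D.mem_NT.mpr h))
      perfect := by
        refine Subgroup.map_injective (f := D.lcEquiv.toMonoidHom) D.lcEquiv.injective ?_
        rw [commutator_def, Subgroup.map_commutator, Subgroup.map_top_of_surjective _ D.lcEquiv.surjective]
        refine Subgroup.map_injective (f := D.LL.subtype) D.LL.subtype_injective ?_
        rw [Subgroup.map_commutator, ← MonoidHom.range_eq_map, Subgroup.range_subtype]
        exact D.LL_perfect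
      own := inL _ ⟨1, by group⟩ (Commute.refl _)
      inC := inL
      pt := fun y h1 h2 => by
        obtain ⟨hL, w, w0, ww, ew⟩ := D.transv U (u := (D.lcEquiv y : D.TC)) h1 h2
        exact ⟨⟨w, w0, ww⟩, ew⟩
      lift := fun u => by
        obtain ⟨y, hL, hm, hne, ey⟩ := D.member_lift U u.2.1 u.2.2
        exact ⟨D.lcEquiv.symm ⟨y, hL⟩, hm, hne, ey⟩
      inj := fun y y' h1 h2 h1' _ he => D.lcEquiv.injective (Subtype.ext
        (D.member_inj h1 h2 h1' (congrArg Subtype.val (e.injective he)))) }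
  refine ⟨U.F, U.fld, U.fin, U.dec, U.hF, ⟨fun g x hx => hx.conj g, fun x hx => ?_⟩⟩
  obtain ⟨c, rfl⟩ := hx
  refine chart_map C0 (MulAut.conj c) rfl fun y => ⟨fun h => ?_, fun h => Mem.conj h c⟩
  have := Mem.conj (show D.Mem (c * y * c⁻¹) from h) c⁻¹
  exact (show D.Mem y by simpa [mul_assoc] using this)

end Setting

end CfsgLib.Fi22Loc
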