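import Cfsg.Agent.Lib.Fi22Loc.Sylow
import Cfsg.Agent.Lib.Fi22Loc.Geom.Elem

/-!
A member in the centraliser of the central element commutes there with an abelian group of order eighty-one, as soon
as it commutes with suitable quaternion elements.
-/

set_option autoImplicit false
set_option linter.unusedSectionVars false
set_option synthInstance.maxSize 1024

namespace CfsgLib.Fi22Loc

open CfsgLib.U6Three (V2 SL23 det2 app2)

universe u

theorem qX_facts : ψ qX = 0 ∧ qA * qA = -1 ∧ qX * qX = -1 ∧ qA * qX * (qA * qX) = -1 ∧ (-1 : SL23) ≠ 1 := by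
  decide +kernel

theorem quartic_pow : ∀ a : SL23, ψ a = 0 → a ^ 4 = 1 := fun a ha => by
  rw [show (4 : ℕ) = 2 * 2 from rfl, pow_mul, pow_two, pow_two]
  exact (ψ_zero a).mp ha

namespace Setting

variable {G : Type u} [Group G] (D : Setting G)

/-- The conjugates of the involution of one plane. -/
def Mem (y : G) : Prop := ∃ g, y = g * D.tt * g⁻¹

theorem Mem.sq {D : Setting G} {y : G} (h : D.Mem y) : y * y = 1 ∧ y ≠ 1 := by
  obtain ⟨g, rfl⟩ := h
  refine ⟨by rw [show g * D.tt * g⁻¹ * (g * D.tt * g⁻¹) = g * (D.tt * D.tt) * g⁻¹ by group, D.tt_sq]; group,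
    fun e => D.tt_ne (conj_eq_one_iff.mp e)⟩

theorem Mem.conj {D : Setting G} {y : G} (h : D.Mem y) (c : G) : D.Mem (c * y * c⁻¹) := by
  obtain ⟨g, rfl⟩ := h
  exact ⟨c * g, by group⟩

/-- An involution of the levi part commutes with the lifts of classes commuting with its class. -/
theorem comm_of_invol {y s : G} {b c : Bk} (hy : D.Acts y b) (y2 : y * y = 1) (hs : D.Acts s c) (h : b * c = c * b) :
    Commute y s := by
  have h1 := ((hy.mul hs).mul hy.inv).mul hs.inv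
  rw [h, mul_inv_cancel_right, mul_inv_cancel] at h1
  obtain ⟨n, hn⟩ := h1.trivial
  have e : y * s * y⁻¹ = D.zz n * s := by rw [← hn]; group
  have e2 : s = D.zz n * (D.zz n * s) := by
    conv_lhs => rw [show s = y * (y * s * y⁻¹) * y⁻¹ by
      rw [show y * (y * s * y⁻¹) * y⁻¹ = (y * y) * s * (y * y)⁻¹ by group, y2]; group]
    rw [e, show y * (D.zz n * s) * y⁻¹ = y * D.zz n * y⁻¹ * (y * s * y⁻¹) by group, D.conj_zz hy.1.cz, e]
  have e3 : D.zz (n + n) = D.zz 0 := by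
    rw [D.zz_zero, D.zz_add]
    exact mul_right_cancel (b := s) (by rw [one_mul, mul_assoc]; exact e2.symm)
  rw [(by decide : ∀ n : ZMod 3, n + n = 0 → n = 0) n (D.zz_inj e3), D.zz_zero, one_mul] at e
  exact mul_inv_eq_iff_eq_mul.mp e

variable [Finite G]

/-- An abelian group of order 81 from an element of order four. -/
theorem abelian_of_elem {x s : D.TC} (x3 : x ^ 3 = 1) (hc : Commute s x) (s4 : s ^ 4 = 1) (hsL : s ∈ D.LL)
    (hs1 : (s : G) ^ 2 ≠ 1) (hst : (s : G) ^ 2 ≠ D.tt) :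
    ∃ S : Subgroup D.TC, Nat.card S = 81 ∧ (∀ a ∈ S, a ^ 3 = 1) ∧ (∀ a ∈ S, ∀ b ∈ S, Commute a b) ∧
      ∀ a ∈ S, Commute a x := by
  haveI : Fact (Nat.Prime 3) := ⟨Nat.prime_three⟩
  obtain ⟨U⟩ := D.exists_udata
  have hxL : x ∈ D.LL := by
    have h := D.fourth_mem_L1 x
    rw [pow_succ, x3, one_mul] at h
    exact D.L1_eq.le h
  let e : D.UU ≃* Cfsg.PSU 6 U.F 2 := U.e
  set xb : D.UU := ⟨D.mkT x, hxL⟩
  set sb : D.UU := ⟨D.mkT s, hsL⟩
  have sb2 : ((e sb)) ^ 2 ≠ 1 := fun q => by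
    rw [← map_pow, MulEquiv.map_eq_one_iff] at q
    have e' : D.mkT (s ^ 2) = D.mkT 1 := by rw [map_pow, map_one]; exact congrArg Subtype.val q
    rcases D.mk_eq e'.symm with r | r
    · exact hs1 (by rw [← Subgroup.coe_pow]; exact r)
    · exact hst (by rw [← Subgroup.coe_pow, r, Subgroup.coe_one, one_mul])
  obtain ⟨E, hE81, hE3, hEc, hEx⟩ := Geom.exists_abelian U.hF (x := (e xb)) (s := (e sb))
    (by rw [← map_pow, show xb ^ 3 = 1 from Subtype.ext (by rw [Subgroup.coe_pow]; exact (map_pow D.mkT x 3).symm.trans (by rw [x3, map_one]; rfl)), map_one])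
    (by rw [← map_pow, show sb ^ 4 = 1 from Subtype.ext (by rw [Subgroup.coe_pow]; exact (map_pow D.mkT s 4).symm.trans (by rw [s4, map_one]; rfl)), map_one])
    sb2
    ((show Commute sb xb from Subtype.ext (hc.map D.mkT).eq).map e)
  set E' := (E.map e.symm.toMonoidHom).map D.UU.subtype
  have hmem : ∀ a ∈ E', ∃ q ∈ E, a = (e.symm q : D.TC ⧸ D.NT) := by
    rintro _ ⟨_, ⟨q, hq, rfl⟩, rfl⟩
    exact ⟨q, hq, rfl⟩
  have cE : Nat.card E' = Nat.card E := by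
    rw [Subgroup.card_map_of_injective D.UU.subtype_injective, Subgroup.card_map_of_injective e.symm.injective]
  set P := E'.comap D.mkT
  have hdiv : 81 ∣ Nat.card P := by
    refine hE81.trans ?_
    rw [← cE, ← Subgroup.map_comap_eq_self_of_surjective D.mk_surj E']
    exact Subgroup.card_map_dvd _ _
  obtain ⟨S0, hS0⟩ := Sylow.exists_subgroup_card_pow_prime 3 (n := 4) (G := P) (by simpa using hdiv)
  set S := S0.map P.subtype
  have cS : Nat.card S = 81 := by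
    rw [Subgroup.card_map_of_injective P.subtype_injective, hS0]; norm_num
  have hp : IsPGroup 3 S := IsPGroup.of_card (n := 4) (by rw [cS]; norm_num)
  have himg : ∀ a ∈ S, ∃ q ∈ E, D.mkT a = (e.symm q : D.TC ⧸ D.NT) := by
    rintro _ ⟨a, -, rfl⟩
    exact hmem _ a.2
  have key : ∀ a : S, ((D.mkT.comp S.subtype) a) ^ 3 = 1 ∧ ∀ b : S, Commute ((D.mkT.comp S.subtype) a)
      ((D.mkT.comp S.subtype) b) := fun a => by
    obtain ⟨q, he, ea⟩ := himg a a.2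
    refine ⟨?_, fun b => ?_⟩
    · show D.mkT (a : D.TC) ^ 3 = 1
      rw [ea, ← Subgroup.coe_pow, ← map_pow, hE3 q he, map_one]; rfl
    · obtain ⟨f, hf, eb⟩ := himg b b.2
      show Commute (D.mkT (a : D.TC)) (D.mkT (b : D.TC))
      rw [ea, eb]
      exact ((hEc q he f hf).map e.symm).map D.UU.subtype
  refine ⟨S, cS, fun a ha => ?_, fun a ha b hb => ?_, fun a ha => ?_⟩
  · have := D.mk_inj_three hp (a₁ := ⟨a, ha⟩ ^ 3) (a₂ := 1) (by rw [map_pow, map_one]; exact (key ⟨a, ha⟩).1)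
    exact congrArg Subtype.val this
  · have := D.mk_inj_three hp (a₁ := (⟨a, ha⟩ : S) * ⟨b, hb⟩) (a₂ := ⟨b, hb⟩ * ⟨a, ha⟩)
      (by rw [map_mul, map_mul]; exact ((key ⟨a, ha⟩).2 ⟨b, hb⟩).eq)
    exact congrArg Subtype.val this
  · obtain ⟨q, he, ea⟩ := himg a ha
    have hcm : Commute (D.mkT a) (D.mkT x) := by
      rw [ea]
      have := ((hEx q he).map e.symm).map D.UU.subtype
      simpa [xb] using this
    refine mul_inv_eq_iff_eq_mul.mp (D.lift_eq (by rw [conj_pow, x3, mul_one, mul_inv_cancel]) x3 ?_)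
    rw [map_mul, map_mul, map_inv, hcm.eq, mul_inv_cancel_right]

/-- Members commuting with two quaternion elements commute with an abelian group of order 81. -/
theorem abelian_cent {y : G} {b : Bk} (hy : D.Acts y b) {g : G} (eg : y = g * D.tt * g⁻¹) {i : Fin 3}
    {w1 w2 : Fin 3 → SL23} (h1 : D.Pq w1) (h2 : D.Pq w2) (c1 : b * dg w1 = dg w1 * b) (c2 : b * dg w2 = dg w2 * b)
    (i1 : w1 i = qA) (i2 : w2 i = qX) (hb : b.π ≠ 1 ∨ ∃ j, b.g j = -1 ∧ w1 j = 1 ∧ w2 j = 1) :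
    ∃ A : Subgroup G, Nat.card A = 81 ∧
      ∀ a ∈ A, Commute a D.z ∧ Commute a y ∧ a ^ 3 = 1 ∧ ∀ a' ∈ A, Commute a a' := by
  obtain ⟨qX0, a1, a2, a3, ne1⟩ := qX_facts
  have y2 : y * y = 1 := (Mem.sq ⟨g, eg⟩).1
  obtain ⟨s1, hs1⟩ := h1.2
  obtain ⟨s2, hs2⟩ := h2.2
  have cy1 := D.comm_of_invol hy y2 hs1 c1
  have cy2 := D.comm_of_invol hy y2 hs2 c2
  -- back to the centraliser
  have back : ∀ {s : G}, Commute y s → g⁻¹ * s * g ∈ D.TC := fun {s} h => by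
    refine D.mem_TC.mpr ?_
    have h' := h.symm.map (MulAut.conj g⁻¹).toMonoidHom
    subst eg
    simpa [mul_assoc] using h'
  set S1 : D.TC := ⟨_, back cy1⟩
  set S2 : D.TC := ⟨_, back cy2⟩
  obtain ⟨s, w, hs, hw, hwi, hwj, hcy, hL⟩ : ∃ (s : G) (w : Fin 3 → SL23), D.Acts s (dg w) ∧ D.Pq w ∧
      w i * w i = -1 ∧ (b.π ≠ 1 ∨ ∃ j, b.g j = -1 ∧ w j = 1) ∧
      ∃ hc : Commute y s, (⟨_, back hc⟩ : D.TC) ∈ D.LL := by
    have d1 : b.π ≠ 1 ∨ ∃ j, b.g j = -1 ∧ w1 j = 1 := hb.imp_right fun ⟨j, r, r1, _⟩ => ⟨j, r, r1⟩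
    have d2 : b.π ≠ 1 ∨ ∃ j, b.g j = -1 ∧ w2 j = 1 := hb.imp_right fun ⟨j, r, _, r2⟩ => ⟨j, r, r2⟩
    have d3 : b.π ≠ 1 ∨ ∃ j, b.g j = -1 ∧ (w1 * w2) j = 1 := hb.imp_right fun ⟨j, r, r1, r2⟩ =>
      ⟨j, r, by rw [Pi.mul_apply, r1, r2, one_mul]⟩
    by_cases l1 : S1 ∈ D.LL
    · exact ⟨s1, w1, hs1, h1, by rw [i1]; exact a1, d1, cy1, l1⟩
    by_cases l2 : S2 ∈ D.LL
    · exact ⟨s2, w2, hs2, h2, by rw [i2]; exact a2, d2, cy2, l2⟩
    refine ⟨s1 * s2, w1 * w2, by rw [← dg_mul]; exact hs1.mul hs2, h1.mul h2,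
      by rw [Pi.mul_apply, i1, i2]; exact a3, d3, cy1.mul_right cy2, ?_⟩
    have e : (⟨_, back (cy1.mul_right cy2)⟩ : D.TC) = S1 * S2 := Subtype.ext (by
      show g⁻¹ * (s1 * s2) * g = g⁻¹ * s1 * g * (g⁻¹ * s2 * g)
      group)
    rw [e]
    rcases D.LL_index with h | h
    · rw [Subgroup.index_eq_one.mp h]; trivial
    · rw [Subgroup.mul_mem_iff_of_index_two h]
      exact ⟨fun r => absurd r l1, fun r => absurd r l2⟩
  -- order four
  have w4 : dg w ^ 4 = 1 := by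
    rw [dg_pow, ← dg_one]
    exact congrArg dg (funext fun k => by rw [Pi.pow_apply, Pi.one_apply, quartic_pow _ (hw.1 k)])
  have h4 : D.Acts (s ^ 4) 1 := by
    have := (hs.mul hs).mul (hs.mul hs)
    rwa [show s * s * (s * s) = s ^ 4 by simp [pow_succ, mul_assoc],
      show dg w * dg w * (dg w * dg w) = dg w ^ 4 by simp [pow_succ, mul_assoc], w4] at this
  obtain ⟨l, hl⟩ := h4.trivial
  have h9 : D.Acts (s ^ 9) (dg w) := by
    have := (h4.mul h4).mul hs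
    rwa [← pow_add, ← pow_succ, one_mul, one_mul] at this
  have s36 : (s ^ 9) ^ 4 = 1 := by
    rw [← pow_mul, show 9 * 4 = 4 * (3 * 3) from rfl, pow_mul, hl, pow_mul, D.Q_cube (D.zz_mem l), one_pow]
  set T : D.TC := ⟨_, back hcy⟩
  have hT9 : ((T ^ 9 : D.TC) : G) = g⁻¹ * s ^ 9 * g := by
    rw [Subgroup.coe_pow]
    show (g⁻¹ * s * g) ^ 9 = _
    rw [show g⁻¹ * s * g = g⁻¹ * s * g⁻¹⁻¹ by rw [inv_inv], conj_pow, inv_inv]
  have hzy : Commute D.z y := hy.1.cz.symm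
  set x : D.TC := ⟨_, back hzy.symm⟩
  have x3 : x ^ 3 = 1 := Subtype.ext (cube_conj D.z_cube)
  have hTx : Commute (T ^ 9) x := Subtype.ext (by
    rw [Subgroup.coe_mul, Subgroup.coe_mul, hT9]
    show g⁻¹ * s ^ 9 * g * (g⁻¹ * D.z * g) = g⁻¹ * D.z * g * (g⁻¹ * s ^ 9 * g)
    rw [show g⁻¹ * s ^ 9 * g * (g⁻¹ * D.z * g) = g⁻¹ * (s ^ 9 * D.z) * g by group, h9.1.cz.eq]
    group)
  have hsq : (s ^ 9 * s ^ 9 ≠ 1) ∧ s ^ 9 * s ^ 9 ≠ y := by
    have hh := h9.mul h9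
    rw [dg_mul] at hh
    refine ⟨fun e => ?_, fun e => ?_⟩
    · rw [e] at hh
      have := congrFun (dg_inj ((hh.unique D.acts_one).trans dg_one.symm)) i
      rw [Pi.mul_apply, hwi, Pi.one_apply] at this
      exact ne1 this
    · rw [e] at hh
      have hbe := hy.unique hh
      rcases hwj with r | ⟨j, rj, rw'⟩
      · exact r (by rw [hbe]; rfl)
      · rw [hbe, dg_g, Pi.mul_apply, rw', one_mul] at rj
        exact ne1 rj.symm
  have hsq' : ∀ c, g⁻¹ * c * g = g⁻¹ * (s ^ 9 * s ^ 9) * g → c = s ^ 9 * s ^ 9 := fun c e =>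
    mul_left_cancel (mul_right_cancel e)
  have hT2 : ((T ^ 9 : D.TC) : G) ^ 2 = g⁻¹ * (s ^ 9 * s ^ 9) * g := by rw [hT9, pow_two]; group
  obtain ⟨S, cS, S3, Sc, Sx⟩ := D.abelian_of_elem x3 hTx
    (Subtype.ext (by
      rw [Subgroup.coe_pow, hT9, show g⁻¹ * s ^ 9 * g = g⁻¹ * s ^ 9 * g⁻¹⁻¹ by rw [inv_inv], conj_pow, s36]
      simp))
    (pow_mem hL 9)
    (fun e => hsq.1 (hsq' 1 (by rw [← hT2, e, mul_one, inv_mul_cancel])).symm)
    (fun e => hsq.2 (hsq' y (by rw [← hT2, e, eg]; group)).symm)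
  refine ⟨(S.map D.TC.subtype).map (MulAut.conj g).toMonoidHom, ?_, ?_⟩
  · rw [Subgroup.card_map_of_injective (MulEquiv.injective _), Subgroup.card_map_of_injective D.TC.subtype_injective, cS]
  · rintro _ ⟨_, ⟨a, ha, rfl⟩, rfl⟩
    refine ⟨?_, ?_, ?_, ?_⟩
    · have := ((Sx a ha).map D.TC.subtype).map (MulAut.conj g).toMonoidHom
      simpa [x, mul_assoc] using this
    · have := (D.mem_TC.mp a.2).map (MulAut.conj g).toMonoidHom
      simpa [eg, mul_assoc] using this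
    · rw [← map_pow, ← map_pow, S3 a ha, map_one, map_one]
    · rintro _ ⟨_, ⟨a', ha', rfl⟩, rfl⟩
      exact ((Sc a ha a' ha').map D.TC.subtype).map (MulAut.conj g).toMonoidHom

end Setting

end CfsgLib.Fi22Loc
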