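import Cfsg.Agent.Lib.Fi22Loc.Member.Abelian

/-!
Counting abelian groups of exponent three commuting with an involution of the centraliser of the central element.
-/

set_option autoImplicit false
set_option linter.unusedSectionVars false
set_option synthInstance.maxSize 1024

namespace CfsgLib.Fi22Loc

open CfsgLib.U6Three (V2 SL23 det2 app2)

universe u

theorem sgn_comm_inj : ∀ (a : SL23) (s t : Bool), a * Setting.sgn s = Setting.sgn t * a → t = s := by decide +kernel

theorem sgn_fix_zero : ∀ x : V2, -x = x → x = 0 := by decide +kernel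

/-- Isotropic groups seen in one plane have at most three elements. -/
theorem line_bound (W : AddSubgroup V6) (f : W → V2) (hf : Function.Injective f)
    (hd : ∀ v w, det2 (f v) (f w) = 0) : Nat.card W ≤ 3 := by
  classical
  by_cases h : ∀ v, f v = 0
  · refine le_trans (Nat.card_le_card_of_injective (fun _ : W => (0 : ZMod 3)) fun v w _ => hf (by rw [h v, h w])) ?_
    rw [Nat.card_zmod]
  · push Not at h
    obtain ⟨v0, hv0⟩ := h
    choose n hn using fun w => det2_line (f w) (f v0) hv0 (hd w v0)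
    refine le_trans (Nat.card_le_card_of_injective n fun v w e => hf (by rw [hn v, hn w, e])) ?_
    rw [Nat.card_zmod]

/-- Fixed isotropic groups of an involution moving a vector to its negative are smaller. -/
theorem fix_bound {b : Bk} (W : AddSubgroup V6) (hW : ∀ v ∈ W, ∀ w ∈ W, om v w = 0) (hfix : ∀ v ∈ W, appB b v = v)
    {l : V6} (hl0 : l ≠ 0) (hl : appB b l = -l) : Nat.card W ≤ 9 := by
  have hperp : ∀ v ∈ W, om v l = 0 := fun v hv => by
    have h := appB_om b v l
    rw [hfix v hv, hl, om_neg_right] at h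
    exact (by decide : ∀ a : ZMod 3, -a = a → a = 0) _ h
  let f : W × ZMod 3 →+ V6 :=
    AddMonoidHom.mk' (fun p => (p.1 : V6) + p.2 • l) fun p q => by
      show ((p.1 + q.1 : W) : V6) + (p.2 + q.2) • l = _
      rw [AddSubgroup.coe_add, add_smul]
      abel
  have hinj : Function.Injective f := (injective_iff_map_eq_zero _).mpr fun p hp => by
    have h : (p.1 : V6) = -(p.2 • l) := eq_neg_of_add_eq_zero_left hp
    have h1 := hfix _ p.1.2
    rw [h, appB_neg, appB_smul, hl, smul_neg, neg_neg] at h1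
    have h2 : p.2 • l = 0 := by
      have := V6_three (p.2 • l)
      have h3 : p.2 • l + p.2 • l = 0 := by
        nth_rw 1 [h1]
        rw [neg_add_cancel]
      rwa [h3, zero_add] at this
    have hp2 : p.2 = 0 := by
      by_contra q
      exact hl0 ((smul_eq_zero.mp h2).resolve_left q)
    rw [h2, neg_zero] at h
    exact Prod.ext (Subtype.ext h) hp2
  have hiso : ∀ v ∈ f.range, ∀ w ∈ f.range, om v w = 0 := by
    rintro _ ⟨p, rfl⟩ _ ⟨q, rfl⟩
    show om ((p.1 : V6) + p.2 • l) ((q.1 : V6) + q.2 • l) = 0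
    rw [om_add_left, om_add_right, om_add_right, hW _ p.1.2 _ q.1.2, om_smul_right, hperp _ p.1.2, om_smul_left,
      om_swap (q.1 : V6) l, hperp _ q.1.2, om_smul_left, om_smul_right, om_self]
    simp
  have h := iso_bound f.range hiso
  rw [← Nat.card_congr (AddMonoidHom.ofInjective hinj).toEquiv, Nat.card_prod, Nat.card_zmod] at h
  omega

namespace Setting

variable {G : Type u} [Group G] (D : Setting G)

theorem real_commute_sB {B : Bk} {e : Fin 3 → Bool} (h : B * sB e = sB e * B) (i : Fin 3) : e (B.π i) = e i := by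
  have h1 := congrArg (fun C : Bk => C.g (B.π i)) h
  have hs : ∀ k, (sB e).π.symm k = k := fun k => rfl
  simp only [mul_g, hs, sB, dg_g, Equiv.symm_apply_apply] at h1
  exact sgn_comm_inj _ _ _ h1

/-- An abelian group of exponent three inside the centralisers. -/
structure Ab3 (y : G) (A : Subgroup G) : Prop where
  z : ∀ a ∈ A, Commute a D.z
  y' : ∀ a ∈ A, Commute a y
  cube : ∀ a ∈ A, a ^ 3 = 1
  comm : ∀ a ∈ A, ∀ a' ∈ A, Commute a a'

variable {D} {y : G} {A : Subgroup G}

/-- The vectors. -/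
def Ab3.vec (_ : D.Ab3 y A) : AddSubgroup V6 where
  carrier := {v | ∃ k, D.zz k * D.q v ∈ A}
  zero_mem' := ⟨0, by rw [D.zz_zero, D.q_zero, one_mul]; exact one_mem _⟩
  add_mem' := by
    rintro v w ⟨k, hk⟩ ⟨l, hl⟩
    refine ⟨k + l + -om v w, ?_⟩
    have := mul_mem hk hl
    rwa [mul_assoc (D.zz k), ← mul_assoc (D.q v), ← (D.zz_q l v).eq, mul_assoc (D.zz l), D.q_mul', ← mul_assoc,
      ← D.zz_add, ← mul_assoc, ← D.zz_add] at this
  neg_mem' := by
    rintro v ⟨k, hk⟩
    refine ⟨-k, ?_⟩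
    have := inv_mem hk
    rwa [mul_inv_rev, D.q_inv, ← D.zz_neg, ← (D.zz_q (-k) (-v)).eq] at this

theorem Ab3.vec_iso (hA : D.Ab3 y A) : ∀ v ∈ hA.vec, ∀ w ∈ hA.vec, om v w = 0 := by
  rintro v ⟨k, hk⟩ w ⟨l, hl⟩
  have h := hA.comm _ hk _ hl
  have h1 : Commute (D.q v) (D.zz l * D.q w) := by
    have hc : Commute (D.zz k) (D.zz l * D.q w) :=
      (((Commute.refl D.z).pow_left _).pow_right _ : Commute (D.zz k) (D.zz l)).mul_right (D.zz_q k w)
    have := hc.inv_left.mul_left h
    rwa [inv_mul_cancel_left] at this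
  have h2 : Commute (D.q v) (D.q w) := by
    have := ((D.zz_q l v).symm.inv_right).mul_right h1
    rwa [inv_mul_cancel_left] at this
  exact D.q_comm.mp h2

theorem Ab3.vec_fix (hA : D.Ab3 y A) {b : Bk} (hy : D.Acts y b) : ∀ v ∈ hA.vec, appB b v = v := by
  rintro v ⟨k, hk⟩
  have h := hA.y' _ hk
  have e : y * (D.zz k * D.q v) * y⁻¹ = D.zz k * D.q v := by rw [← h.eq, mul_inv_cancel_right]
  rw [show y * (D.zz k * D.q v) * y⁻¹ = y * D.zz k * y⁻¹ * (y * D.q v * y⁻¹) by group, D.conj_zz hy.1.cz, hy.2] at e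
  exact (D.el_inj e).2

/-- The classes. -/
noncomputable def Ab3.hom (hA : D.Ab3 y A) : A →* Bk where
  toFun a := D.im (a : G)
  map_one' := D.im_eq (D.img_Q (one_mem _))
  map_mul' a a' := D.im_eq ((D.im_spec (hA.z _ a.2)).mul (D.im_spec (hA.z _ a'.2)))

theorem Ab3.hom_mem (hA : D.Ab3 y A) {b : Bk} (hy : D.Acts y b) {B : Bk} (hB : B ∈ hA.hom.range) :
    B * B * B = 1 ∧ D.Real B ∧ B * b = b * B := by
  obtain ⟨a, rfl⟩ := hB
  have h := D.im_spec (hA.z _ a.2)
  exact ⟨D.img_cube h (hA.cube _ a.2), D.img_real h, D.img_commute h (D.img_acts hy) (hA.y' _ a.2)⟩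

variable [Finite G]

theorem Ab3.card_ker (hA : D.Ab3 y A) : Nat.card hA.hom.ker ≤ 3 * Nat.card hA.vec := by
  have hm : ∀ a : hA.hom.ker, ∃ (k : ZMod 3) (v : V6), ((a : A) : G) = D.zz k * D.q v := fun a => by
    have h := D.im_spec (hA.z _ (a : A).2)
    rw [show D.im ((a : A) : G) = 1 from a.2] at h
    exact h.mem_Q
  choose k v hkv using hm
  let f : hA.hom.ker → ZMod 3 × hA.vec := fun a => (k a, ⟨v a, k a, hkv a ▸ (a : A).2⟩)
  have hf : Function.Injective f := fun a a' e => by
    refine Subtype.ext (Subtype.ext ?_)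
    rw [hkv a, hkv a', show k a = k a' from congrArg Prod.fst e,
      show v a = v a' from congrArg (fun p : ZMod 3 × hA.vec => (p.2 : V6)) e]
  refine (Nat.card_le_card_of_injective f hf).trans ?_
  rw [Nat.card_prod, Nat.card_zmod]

theorem Ab3.card_range (hA : D.Ab3 y A) {b : Bk} (hy : D.Acts y b) (P : Equiv.Perm (Fin 3) → Prop) [DecidablePred P]
    (hP : ∀ B : Bk, B * B * B = 1 → B * b = b * B → P B.π) :
    Nat.card hA.hom.range ≤ Fintype.card {p // P p} * 3 := by
  let f : hA.hom.range → {p // P p} × ZMod 3 := fun B =>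
    (⟨B.1.π, hP _ (hA.hom_mem hy B.2).1 (hA.hom_mem hy B.2).2.2⟩, cv B.1 0)
  have hf : Function.Injective f := fun B B' e => by
    have eπ : B.1.π = B'.1.π := congrArg (fun p : {p // P p} × ZMod 3 => (p.1 : Equiv.Perm (Fin 3))) e
    have ecv : cv B.1 0 = cv B'.1 0 := congrArg Prod.snd e
    obtain ⟨h3, hr, -⟩ := hA.hom_mem hy (mul_mem B.2 (inv_mem B'.2))
    have hπ : (B.1 * B'.1⁻¹).π = 1 := by rw [mul_π, inv_π, eπ, mul_inv_cancel]
    have h0 : cv (B.1 * B'.1⁻¹) 0 = 0 := by
      rw [cv_mul, cv_inv, ecv, eπ, Equiv.apply_symm_apply, add_neg_cancel]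
    have hc := D.const hr hπ
    refine Subtype.ext (mul_inv_eq_one.mp (Bk.ext' hπ fun i => ?_))
    refine ψ_three _ (bk_cube_g h3 hπ i) ?_
    have := congrFun hc i
    rw [h0] at this
    exact this
  refine (Nat.card_le_card_of_injective f hf).trans ?_
  rw [Nat.card_prod, Nat.card_zmod, Nat.card_eq_fintype_card]

theorem Ab3.card_le (hA : D.Ab3 y A) {b : Bk} (hy : D.Acts y b) (P : Equiv.Perm (Fin 3) → Prop) [DecidablePred P]
    (hP : ∀ B : Bk, B * B * B = 1 → B * b = b * B → P B.π) {p w : ℕ} (hp : Fintype.card {q // P q} ≤ p)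
    (hw : Nat.card hA.vec ≤ w) : Nat.card A ≤ 9 * w * p := by
  have h := hA.hom.ker.card_mul_index
  rw [Subgroup.index_ker] at h
  rw [← h]
  calc Nat.card hA.hom.ker * Nat.card hA.hom.range ≤ (3 * w) * (p * 3) :=
        Nat.mul_le_mul (hA.card_ker.trans (Nat.mul_le_mul_left _ hw))
          ((hA.card_range hy P hP).trans (Nat.mul_le_mul_right _ hp))
    _ = 9 * w * p := by ring

end Setting

end CfsgLib.Fi22Loc
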