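import Cfsg.Agent.Lib.Fi22Loc.Member.Bound

/-!
Members in the centraliser of the central element change the sign of exactly one plane.
-/

set_option autoImplicit false
set_option linter.unusedSectionVars false
set_option synthInstance.maxSize 1024

namespace CfsgLib.Fi22Loc

open CfsgLib.U6Three (V2 SL23 det2 app2)

universe u

theorem swap_shape : ∀ p : Equiv.Perm (Fin 3), p * p = 1 → p ≠ 1 → ∃ a c m : Fin 3, a ≠ c ∧ a ≠ m ∧ c ≠ m ∧
    p a = c ∧ p c = a ∧ p m = m ∧ (∀ i, i = a ∨ i = c ∨ i = m) := by decide +kernel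

theorem third_plane : ∀ a c : Fin 3, a ≠ c → ∃ m : Fin 3, a ≠ m ∧ c ≠ m ∧ ∀ i, i = a ∨ i = c ∨ i = m := by
  decide +kernel

theorem perm_cube_count : Fintype.card {p : Equiv.Perm (Fin 3) // p * p * p = 1} ≤ 3 := by decide +kernel

theorem perm_cube_fix : ∀ m : Fin 3, Fintype.card {p : Equiv.Perm (Fin 3) // p * p * p = 1 ∧ p m = m} ≤ 1 := by
  decide +kernel

theorem perm_cube_comm : ∀ q : Equiv.Perm (Fin 3), q * q = 1 → q ≠ 1 →
    Fintype.card {p : Equiv.Perm (Fin 3) // p * p * p = 1 ∧ p * q = q * p} ≤ 1 := by decide +kernel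

theorem sl_sq_cases : ∀ a : SL23, a * a = 1 → a = 1 ∨ a = -1 := by decide +kernel

theorem det2_app2 : ∀ (g : SL23) (x y : V2), det2 (app2 g x) (app2 g y) = det2 x y := by decide +kernel

theorem det2_double : ∀ d : ZMod 3, d + d = 0 → d = 0 := by decide +kernel

theorem sign_central : ∀ a g : SL23, (g = 1 ∨ g = -1) → g * a = a * g := by decide +kernel

namespace Setting

variable {G : Type u} [Group G] (D : Setting G)

theorem appB_apply {b : Bk} (v : V6) {i l : Fin 3} (h : b.π i = l) : appB b v l = app2 (b.g l) (v i) := by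
  subst h; simp [appB]

/-- An involution centralising the central element is moved into the levi part. -/
theorem to_levi {y : G} (hc : Commute y D.z) (y2 : y * y = 1) :
    ∃ (u : V6) (b : Bk), D.Img y b ∧ appB b u = -u ∧ D.Acts (D.q u * y * (D.q u)⁻¹) b := by
  obtain ⟨u, s, b, rfl, hb⟩ := D.cases_H hc
  have hI := D.img_of (u := u) hb
  have hb2 : b * b = 1 := D.img_sq hI y2
  obtain ⟨l, hl⟩ := (show D.Acts (s * s) 1 from hb2 ▸ hb.mul hb).trivial
  have hsu : s * D.q u = D.q (appB b u) * s := by rw [← hb.2 u, inv_mul_cancel_right]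
  have e : D.q u * D.q (appB b u) = (D.zz l)⁻¹ := by
    refine eq_inv_of_mul_eq_one_left ?_
    rw [← hl]
    calc D.q u * D.q (appB b u) * (s * s) = D.q u * (D.q (appB b u) * s) * s := by group
      _ = D.q u * (s * D.q u) * s := by rw [hsu]
      _ = 1 := by rw [← y2]; group
  rw [D.q_mul', ← D.zz_neg, ← mul_one (D.zz (-l)), ← D.q_zero] at e
  have hu : appB b u = -u := eq_neg_of_add_eq_zero_right (D.el_inj e).2
  refine ⟨u, b, hI, hu, ?_⟩
  have e2 : D.q u * (D.q u * s) * (D.q u)⁻¹ = D.zz (-om u u + -om (u + u) u) * s := by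
    have h1 : s * (D.q u)⁻¹ = D.q u * s := by
      rw [D.q_inv]
      have := hb.2 (-u)
      rw [appB_neg, hu, neg_neg] at this
      rw [← this, inv_mul_cancel_right]
    calc D.q u * (D.q u * s) * (D.q u)⁻¹ = D.q u * D.q u * (s * (D.q u)⁻¹) := by group
      _ = D.q u * D.q u * D.q u * s := by rw [h1]; group
      _ = _ := by
        rw [D.q_mul', mul_assoc (D.zz _) (D.q _) (D.q u), D.q_mul', V6_three, D.q_zero, mul_one, ← D.zz_add]
  rw [e2]
  simpa using (D.acts_zz _).mul hb

variable [Finite G]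

theorem not_many {y : G} {e : Fin 3 → Bool} (hy : D.Acts y (sB e)) (hm : D.Mem y) {a c : Fin 3} (hac : a ≠ c)
    (ha : e a = true) (hcc : e c = true) : False := by
  obtain ⟨m, ham, hcm, hall⟩ := third_plane a c hac
  obtain ⟨qX0, -⟩ := qX_facts
  obtain ⟨w1, h1, w1a, w1c⟩ := D.pq_pair qA 1 ψ_qA ψ_one hac
  obtain ⟨w2, h2, w2a, w2c⟩ := D.pq_pair qX 1 qX0 ψ_one hac
  obtain ⟨g, eg⟩ := hm
  obtain ⟨A, cA, hA⟩ := D.abelian_cent hy eg h1 h2 (sB_comm_dg e w1).symm (sB_comm_dg e w2).symm w1a w2a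
    (Or.inr ⟨c, by simp [sB, dg_g, hcc, sgn], w1c, w2c⟩)
  have hA' : D.Ab3 y A :=
    ⟨fun a ha => (hA a ha).1, fun a ha => (hA a ha).2.1, fun a ha => (hA a ha).2.2.1, fun a ha => (hA a ha).2.2.2⟩
  have hz : ∀ v : hA'.vec, ∀ i, e i = true → (v : V6) i = 0 := fun v i hi => by
    have := congrFun (hA'.vec_fix hy v v.2) i
    rw [sB_app, if_pos hi] at this
    exact sgn_fix_zero _ this
  cases hem : e m with
  | true =>
    have hw : Nat.card hA'.vec ≤ 1 := by
      refine le_trans (Nat.card_le_card_of_injective (fun _ : hA'.vec => ()) fun v w _ => Subtype.ext (funext fun i => ?_))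
        (by rw [Nat.card_unique])
      rcases hall i with r | r | r <;> subst r
      exacts [(hz v _ ha).trans (hz w _ ha).symm, (hz v _ hcc).trans (hz w _ hcc).symm,
        (hz v _ hem).trans (hz w _ hem).symm]
    have := hA'.card_le hy (fun p => p * p * p = 1) (fun B h _ => bk_cube_π h) perm_cube_count hw
    omega
  | false =>
    have hw : Nat.card hA'.vec ≤ 3 := by
      refine line_bound _ (fun v => (v : V6) m) (fun v w q => Subtype.ext (funext fun i => ?_)) fun v w => ?_
      · rcases hall i with r | r | r <;> subst r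
        exacts [(hz v _ ha).trans (hz w _ ha).symm, (hz v _ hcc).trans (hz w _ hcc).symm, q]
      · have hdec : (v : V6) = emb m ((v : V6) m) := funext fun i => by
          rcases hall i with r | r | r <;> subst r
          · rw [hz v _ ha, emb_ne ham]
          · rw [hz v _ hcc, emb_ne hcm]
          · rw [emb_self]
        have h := hA'.vec_iso _ w.2 _ v.2
        rw [hdec, om_emb] at h
        exact (by decide +kernel : ∀ x y : V2, det2 y x = 0 → det2 x y = 0) _ _ h
    have hP : ∀ B : Bk, B * B * B = 1 → B * sB e = sB e * B → B.π * B.π * B.π = 1 ∧ B.π m = m := fun B h3 hc => by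
      refine ⟨bk_cube_π h3, ?_⟩
      have := real_commute_sB hc m
      rcases hall (B.π m) with r | r | r
      · rw [r, ha, hem] at this; exact absurd this (by decide)
      · rw [r, hcc, hem] at this; exact absurd this (by decide)
      · exact r
    have := hA'.card_le hy (fun p => p * p * p = 1 ∧ p m = m) hP (perm_cube_fix m) hw
    omega

/-- The fixed part of the core. -/
noncomputable def CQ (y : G) : Subgroup G := D.Q ⊓ Subgroup.centralizer ({y} : Set G)

theorem not_swap {y : G} {b : Bk} (hy : D.Acts y b) (hm : D.Mem y) (hπ : b.π ≠ 1) : False := by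
  obtain ⟨qX0, -⟩ := qX_facts
  have y2 := hm.sq.1
  have hb2 : b * b = 1 := D.img_sq (D.img_acts hy) y2
  have hπ2 : b.π * b.π = 1 := by rw [← mul_π, hb2]; rfl
  obtain ⟨a, c, m, hac, ham, hcm, pa, pc, pm, hall⟩ := swap_shape _ hπ2 hπ
  have sc : b.π.symm c = a := by rw [Equiv.symm_apply_eq, pa]
  have sa : b.π.symm a = c := by rw [Equiv.symm_apply_eq, pc]
  have sm : b.π.symm m = m := by rw [Equiv.symm_apply_eq, pm]
  have hg := fun i => congrArg (fun C : Bk => C.g i) hb2
  have gca : b.g c * b.g a = 1 := by have := hg c; simpa only [mul_g, sc, one_g] using this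
  have gac : b.g a * b.g c = 1 := by have := hg a; simpa only [mul_g, sa, one_g] using this
  have gm : b.g m = 1 ∨ b.g m = -1 := sl_sq_cases _ (by have := hg m; simpa only [mul_g, sm, one_g] using this)
  -- witnesses
  have wit : ∀ x : SL23, ψ x = 0 → ∃ w, D.Pq w ∧ b * dg w = dg w * b ∧ w a = x := fun x hx => by
    obtain ⟨w, hw, wa, wc⟩ := D.pq_pair x (b.g c * x * (b.g c)⁻¹) hx (by rw [ψ_conj, hx]) hac
    refine ⟨w, hw, Bk.ext' (by rw [mul_π, mul_π, dg_π, mul_one, one_mul]) fun i => ?_, wa⟩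
    simp only [mul_g, dg_g, dg_π]
    rcases hall i with r | r | r <;> subst r
    · rw [sa, Equiv.Perm.one_symm, Equiv.Perm.one_apply, wc, wa, ← mul_assoc, ← mul_assoc, gac, one_mul,
        inv_eq_of_mul_eq_one_right gca]
    · rw [sc, Equiv.Perm.one_symm, Equiv.Perm.one_apply, wc, wa, inv_mul_cancel_right]
    · rw [sm, Equiv.Perm.one_symm, Equiv.Perm.one_apply]
      exact sign_central _ _ gm
  obtain ⟨w1, h1, c1, i1⟩ := wit qA ψ_qA
  obtain ⟨w2, h2, c2, i2⟩ := wit qX qX0
  obtain ⟨g, eg⟩ := hm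
  obtain ⟨A, cA, hA⟩ := D.abelian_cent hy eg h1 h2 c1 c2 i1 i2 (Or.inl hπ)
  have hA' : D.Ab3 y A :=
    ⟨fun a ha => (hA a ha).1, fun a ha => (hA a ha).2.1, fun a ha => (hA a ha).2.2.1, fun a ha => (hA a ha).2.2.2⟩
  have hP : ∀ B : Bk, B * B * B = 1 → B * b = b * B → B.π * B.π * B.π = 1 ∧ B.π * b.π = b.π * B.π := fun B h h' =>
    ⟨bk_cube_π h, by rw [← mul_π, h', mul_π]⟩
  have hfixc : ∀ v : hA'.vec, (v : V6) c = app2 (b.g c) ((v : V6) a) := fun v => by
    conv_lhs => rw [← hA'.vec_fix hy v v.2]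
    exact appB_apply _ pa
  rcases gm with gm | gm
  swap
  · -- the third plane is inverted
    have hvm : ∀ v : hA'.vec, (v : V6) m = 0 := fun v => by
      have e := congrFun (hA'.vec_fix hy v v.2) m
      rw [appB_apply _ pm, gm] at e
      exact (by decide +kernel : ∀ x : V2, app2 (-1) x = x → x = 0) _ e
    have hw : Nat.card hA'.vec ≤ 3 := by
      refine line_bound _ (fun v => (v : V6) a) (fun v w q => Subtype.ext (funext fun i => ?_)) fun v w => ?_
      · simp only at q
        rcases hall i with r | r | r <;> subst r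
        exacts [q, by rw [hfixc, hfixc, q], by rw [hvm, hvm]]
      · have h := hA'.vec_iso _ v.2 _ w.2
        have hdec : (w : V6) = emb a ((w : V6) a) + emb c ((w : V6) c) := funext fun i => by
          rw [Pi.add_apply]
          rcases hall i with r | r | r <;> subst r
          · rw [emb_self, emb_ne hac, add_zero]
          · rw [emb_self, emb_ne hac.symm, zero_add]
          · rw [hvm, emb_ne ham.symm, emb_ne hcm.symm, add_zero]
        rw [hdec, om_add_right, om_emb, om_emb, hfixc, hfixc, det2_app2] at h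
        exact det2_double _ h
    have := hA'.card_le hy _ hP (perm_cube_comm _ hπ2 hπ) hw
    omega
  -- the third plane is fixed
  set l : V6 := emb a (1, 0) - emb c (app2 (b.g c) (1, 0))
  have hl : appB b l = -l := by
    rw [appB_sub, appB_emb, appB_emb, pa, pc, ← CfsgLib.U6Three.app2_mul, gac, CfsgLib.U6Three.app2_one, neg_sub]
  have hl0 : l ≠ 0 := fun e => by
    have := congrFun e a
    simp only [l, Pi.sub_apply, emb_self, emb_ne hac, sub_zero, Pi.zero_apply] at this
    exact absurd this (by decide)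
  have hw : Nat.card hA'.vec ≤ 9 := fix_bound _ hA'.vec_iso (hA'.vec_fix hy) hl0 hl
  obtain ⟨a0, ha0, hout⟩ : ∃ a0 ∈ A, a0 ∉ D.Q := by
    by_contra hno
    push Not at hno
    have : hA'.hom.ker = ⊤ := eq_top_iff.mpr fun x _ => D.im_eq (D.img_Q (hno x x.2))
    have hk := hA'.card_ker
    rw [this, Subgroup.card_top, cA] at hk
    omega
  -- a group of order 729
  haveI : Fact (Nat.Prime 3) := ⟨Nat.prime_three⟩
  have hmemv : ∀ (k : ZMod 3) (x z : V2), D.zz k * D.q (emb a x + emb c (app2 (b.g c) x) + emb m z) ∈ D.CQ y := by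
    intro k x z
    refine ⟨D.zz_q_mem_Q _ _, Subgroup.mem_centralizer_singleton_iff.mpr ?_⟩
    have hv : appB b (emb a x + emb c (app2 (b.g c) x) + emb m z) = emb a x + emb c (app2 (b.g c) x) + emb m z := by
      rw [appB_add, appB_add, appB_emb, appB_emb, appB_emb, pa, pc, pm, gm, CfsgLib.U6Three.app2_one,
        ← CfsgLib.U6Three.app2_mul, gac, CfsgLib.U6Three.app2_one, add_comm (emb c _) (emb a x)]
    exact ((D.zz_comm hy.1.cz k).mul_right (hy.comm_q hv)).symm.eq
  have cCQ : 243 ≤ Nat.card (D.CQ y) := by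
    let f : ZMod 3 × V2 × V2 → D.CQ y := fun p => ⟨_, hmemv p.1 p.2.1 p.2.2⟩
    have hf : Function.Injective f := fun p q e => by
      obtain ⟨e1, e2⟩ := D.el_inj (congrArg Subtype.val e)
      have ea := congrFun e2 a
      have em := congrFun e2 m
      simp only [Pi.add_apply, emb_self, emb_ne hac, emb_ne ham, emb_ne ham.symm, emb_ne hcm.symm, add_zero,
        zero_add] at ea em
      exact Prod.ext e1 (Prod.ext ea em)
    refine le_trans (le_of_eq ?_) (Nat.card_le_card_of_injective f hf)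
    rw [Nat.card_prod, Nat.card_prod, Nat.card_prod, Nat.card_zmod]
  have hpCQ : IsPGroup 3 (D.CQ y) := fun x => ⟨1, Subtype.ext (by
    rw [Subgroup.coe_pow, pow_one]; exact D.Q_cube x.2.1)⟩
  have hpa : IsPGroup 3 (Subgroup.zpowers a0) := IsPGroup.of_card (n := 1) (by
    rw [Nat.card_zpowers, pow_one]
    exact orderOf_eq_prime (hA'.cube _ ha0) fun e => hout (e ▸ one_mem _))
  have hnorm : Subgroup.zpowers a0 ≤ Subgroup.normalizer (D.CQ y : Set G) := by
    have key : ∀ h, Commute h D.z → Commute h y → ∀ x ∈ D.CQ y, h * x * h⁻¹ ∈ D.CQ y := fun h hz hy' x hx =>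
      ⟨D.conj_Q hz hx.1, Subgroup.mem_centralizer_singleton_iff.mpr
        ((hy'.mul_left (Subgroup.mem_centralizer_singleton_iff.mp hx.2)).mul_left hy'.inv_left).eq⟩
    rw [Subgroup.zpowers_le, Subgroup.mem_normalizer_iff]
    intro x
    refine ⟨key _ (hA'.z _ ha0) (hA'.y' _ ha0) x, fun hx => ?_⟩
    have := key a0⁻¹ (hA'.z _ ha0).inv_left (hA'.y' _ ha0).inv_left _ hx
    simpa [mul_assoc] using this
  set S0 := Subgroup.zpowers a0 ⊔ D.CQ y
  have hS0 : IsPGroup 3 S0 := hpa.to_sup_of_normal_right' hpCQ hnorm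
  obtain ⟨n, hn⟩ := IsPGroup.iff_card.mp hS0
  have hlt : 243 < Nat.card S0 := by
    refine lt_of_le_of_ne (cCQ.trans (Subgroup.card_le_of_le le_sup_right)) fun e => hout ?_
    have := Subgroup.eq_of_le_of_card_ge (le_sup_right (a := Subgroup.zpowers a0)) (e ▸ cCQ : Nat.card S0 ≤ Nat.card (D.CQ y))
    have h : a0 ∈ D.CQ y := this ▸ Subgroup.mem_sup_left (Subgroup.mem_zpowers _)
    exact h.1
  have h729 : 3 ^ 6 ∣ Nat.card S0 := by
    rw [hn] at hlt ⊢
    refine pow_dvd_pow 3 ?_
    by_contra q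
    have := Nat.pow_le_pow_right (show 0 < 3 by norm_num) (show n ≤ 5 by omega)
    omega
  obtain ⟨S1, hS1⟩ := Sylow.exists_subgroup_card_pow_prime 3 (n := 6) h729
  set S := S1.map S0.subtype
  have hS0c : S0 ≤ Subgroup.centralizer ({D.z} : Set G) ⊓ Subgroup.centralizer ({y} : Set G) := by
    refine sup_le (Subgroup.zpowers_le.mpr ⟨Subgroup.mem_centralizer_singleton_iff.mpr (hA'.z _ ha0).eq,
      Subgroup.mem_centralizer_singleton_iff.mpr (hA'.y' _ ha0).eq⟩) fun x hx => ⟨?_, hx.2⟩
    exact Subgroup.mem_centralizer_singleton_iff.mpr (D.Q_z hx.1).eq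
  have hSc : ∀ x ∈ S, Commute x D.z ∧ Commute x y := by
    rintro _ ⟨x, -, rfl⟩
    exact ⟨Subgroup.mem_centralizer_singleton_iff.mp (hS0c x.2).1, Subgroup.mem_centralizer_singleton_iff.mp (hS0c x.2).2⟩
  set T := S.map (MulAut.conj g⁻¹).toMonoidHom
  have hT : T ≤ D.TC := by
    rintro _ ⟨x, hx, rfl⟩
    refine D.mem_TC.mpr ?_
    have := (hSc x hx).2.map (MulAut.conj g⁻¹).toMonoidHom
    simpa [eg, mul_assoc] using this
  have hx0 : g⁻¹ * D.z * g ∈ D.TC := D.mem_TC.mpr (by
    have := (hy.1.cz.symm).map (MulAut.conj g⁻¹).toMonoidHom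
    simpa [eg, mul_assoc] using this)
  obtain ⟨h, hh⟩ := D.conj_z (x := ⟨_, hx0⟩) (Subtype.ext (cube_conj D.z_cube))
    (fun e => D.z_ne (by
      have e' : g⁻¹ * D.z * g = 1 := congrArg Subtype.val e
      calc D.z = g * (g⁻¹ * D.z * g) * g⁻¹ := by group
        _ = 1 := by rw [e']; group))
    (S := T.subgroupOf D.TC) (by
      rw [Nat.card_congr (Subgroup.subgroupOfEquivOfLe hT).toEquiv, Subgroup.card_map_of_injective (MulEquiv.injective _),
        Subgroup.card_map_of_injective S0.subtype_injective, hS1]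
      norm_num)
    fun s hs => by
      obtain ⟨x, hx, ex⟩ := Subgroup.mem_subgroupOf.mp hs
      refine Subtype.ext ?_
      show (s : G) * _ = _ * (s : G)
      rw [← ex]
      have := (hSc x hx).1.map (MulAut.conj g⁻¹).toMonoidHom
      simpa [mul_assoc] using this.eq
  have hh' : g⁻¹ * D.z * g = (h : G) * D.z * (h : G)⁻¹ := congrArg Subtype.val hh
  have hk : Commute (g * (h : G)) D.z := by
    show g * (h : G) * D.z = D.z * (g * (h : G))
    calc g * (h : G) * D.z = g * ((h : G) * D.z * (h : G)⁻¹) * (h : G) := by group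
      _ = _ := by rw [← hh']; group
  have ey : y = g * (h : G) * D.tt * (g * (h : G))⁻¹ := by
    rw [eg, show g * (h : G) * D.tt * (g * (h : G))⁻¹ = g * ((h : G) * D.tt * (h : G)⁻¹) * g⁻¹ by group,
      (D.mem_TC.mp h.2).eq, mul_inv_cancel_right]
  obtain ⟨C, hC⟩ := D.img_exists hk
  have := (D.img_acts (D.sg_acts (one1 0))).conj hC
  rw [← tt, ← ey] at this
  refine hπ ?_
  rw [(D.img_acts hy).unique this, mul_π, mul_π, inv_π]
  show C.π * (sB (one1 0)).π * C.π⁻¹ = 1
  rw [show (sB (one1 0)).π = 1 from rfl, mul_one, mul_inv_cancel]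

/-- Members centralising the central element. -/
theorem mem_class {y : G} (hm : D.Mem y) (hc : Commute y D.z) : ∃ k, D.Img y (sB (one1 k)) := by
  obtain ⟨u, b, hI, -, hl⟩ := D.to_levi hc hm.sq.1
  by_cases hπ : b.π = 1
  swap
  · exact (D.not_swap hl (hm.conj _) hπ).elim
  obtain ⟨e, rfl⟩ : ∃ e, b = sB e := ⟨_, eq_sB (D.img_sq hI hm.sq.1) hπ⟩
  by_cases h1 : ∃ k, e = one1 k
  · obtain ⟨k, rfl⟩ := h1
    exact ⟨k, hI⟩
  exfalso
  by_cases h0 : ∀ i, e i = false
  · have hQ : y ∈ D.Q := by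
      refine Img.mem_Q (?_ : D.Img y 1)
      rwa [show sB e = 1 by rw [show e = fun _ => false from funext h0]; rfl] at hI
    have h3 := D.Q_cube hQ
    rw [pow_succ, pow_two, hm.sq.1, one_mul] at h3
    exact hm.sq.2 h3
  obtain ⟨a, c, hac, ha, hcc⟩ := (by decide +kernel : ∀ e : Fin 3 → Bool, (¬ ∃ k, e = one1 k) → (¬ ∀ i, e i = false) →
    ∃ a c : Fin 3, a ≠ c ∧ e a = true ∧ e c = true) e h1 h0
  exact D.not_many hl (hm.conj _) hac ha hcc

end Setting

end CfsgLib.Fi22Loc
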