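import Cfsg.Agent.Lib.Fi22Loc.Member.Class

/-!
Every elementary abelian group of order twenty-seven in the centraliser of the involution of one plane contains a
conjugate of the central element.
-/

set_option autoImplicit false
set_option linter.unusedSectionVars false
set_option synthInstance.maxSize 1024

namespace CfsgLib.Fi22Loc

open CfsgLib.U6Three (V2 SL23 det2 app2)

universe u

theorem ax_quad : ∀ g : SL23, g * g * g = 1 → g ≠ 1 → ∃ μ : ZMod 3, μ ≠ 0 ∧
    ∀ n : ZMod 3, ∃ c : V2, c - app2 g c = n • ax g ∧ det2 c (app2 g c) = μ * n * n := by decide +kernel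

theorem quad_hit : ∀ μ ν α β γ : ZMod 3, μ ≠ 0 → ν ≠ 0 →
    ∃ n m : ZMod 3, μ * n * n + ν * m * m = α * n + β * m + γ := by decide +kernel

theorem zmod_three_cases : ∀ k : ZMod 3, k ≠ 0 → k = 1 ∨ k + k = 1 := by decide

theorem v2_ne : ((1, 0) : V2) ≠ 0 := by decide

theorem det2_zero_arg : ∀ a : V2, det2 0 a = 0 ∧ det2 a 0 = 0 := by decide +kernel

instance : Finite Bk := Finite.of_injective (fun b : Bk => (b.π, b.g)) fun a b e =>
  Bk.ext' (congrArg Prod.fst e) fun i => congrFun (congrArg Prod.snd e) i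

theorem det2_line_iff : ∀ x a : V2, a ≠ 0 → det2 x a = 0 → ∃ n : ZMod 3, x = n • a := det2_line

namespace Setting

variable {G : Type u} [Group G] (D : Setting G)

/-- The core extended by an element of order three. -/
def KS {s : G} (h1 : ∀ x ∈ D.Qt, s * x * s⁻¹ ∈ D.Qt) (s3 : s ^ 3 = 1) : Subgroup G where
  carrier := {x | ∃ u ∈ D.Qt, ∃ n : ℕ, x = u * s ^ n}
  one_mem' := ⟨1, one_mem _, 0, by simp⟩
  mul_mem' := by
    rintro _ _ ⟨u, hu, n, rfl⟩ ⟨v, hv, m, rfl⟩
    have hc : ∀ n : ℕ, ∀ x ∈ D.Qt, s ^ n * x * (s ^ n)⁻¹ ∈ D.Qt := fun n => by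
      induction n with
      | zero => intro x hx; simpa using hx
      | succ k ih =>
        intro x hx
        rw [pow_succ, show s ^ k * s * x * (s ^ k * s)⁻¹ = s ^ k * (s * x * s⁻¹) * (s ^ k)⁻¹ by group]
        exact ih _ (h1 x hx)
    exact ⟨u * (s ^ n * v * (s ^ n)⁻¹), mul_mem hu (hc n v hv), n + m, by rw [pow_add]; group⟩
  inv_mem' := by
    rintro _ ⟨u, hu, n, rfl⟩
    have hc : ∀ n : ℕ, ∀ x ∈ D.Qt, s ^ n * x * (s ^ n)⁻¹ ∈ D.Qt := fun n => by
      induction n with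
      | zero => intro x hx; simpa using hx
      | succ k ih =>
        intro x hx
        rw [pow_succ, show s ^ k * s * x * (s ^ k * s)⁻¹ = s ^ k * (s * x * s⁻¹) * (s ^ k)⁻¹ by group]
        exact ih _ (h1 x hx)
    have e : (s ^ n)⁻¹ = s ^ (2 * n) := inv_eq_of_mul_eq_one_right (by
      rw [← pow_add, show n + 2 * n = 3 * n by ring, pow_mul, s3, one_pow])
    refine ⟨s ^ (2 * n) * u⁻¹ * (s ^ (2 * n))⁻¹, hc _ _ (inv_mem hu), 2 * n, ?_⟩
    rw [mul_inv_rev, e, inv_mul_cancel_right]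

theorem qv_conj {s : G} {b : Bk} (hs : D.Acts s b) (v : V6) :
    D.q v * s * (D.q v)⁻¹ = D.zz (om v (appB b v)) * D.q (v - appB b v) * s := by
  have h : s * (D.q v)⁻¹ = D.q (-appB b v) * s := by
    rw [D.q_inv, ← appB_neg, ← hs.2, inv_mul_cancel_right]
  rw [mul_assoc, h, ← mul_assoc, D.q_mul', om_neg_right, neg_neg, ← sub_eq_add_neg]

variable [Finite G]

/-- Elementary groups of order twenty-seven contain conjugates of the central element. -/
theorem elem27 {E : Subgroup D.TC} (cE : Nat.card E = 27) (h3 : ∀ a ∈ E, a ^ 3 = 1)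
    (hc : ∀ a ∈ E, ∀ a' ∈ E, Commute a a') : ∃ e ∈ E, ∃ c : G, (e : G) = c * D.z * c⁻¹ := by
  classical
  haveI : Fact (Nat.Prime 3) := ⟨Nat.prime_three⟩
  obtain ⟨g, s, b, P, hπ⟩ := D.exists_levi
  have e0 : g * D.z * g⁻¹ = s := by rw [P.eq, D.q_zero, one_mul]
  have s3 : s ^ 3 = 1 := e0 ▸ pt_cube (D := D) g
  have sTC : s ∈ D.TC := D.tt_of_dg (w := b.g) (by rw [← eq_dg hπ]; exact P.acts)
  have sQ : s ∉ D.Q := fun h => P.notQ (e0.symm ▸ h)
  have h1 : ∀ x ∈ D.Qt, s * x * s⁻¹ ∈ D.Qt := fun x hx => D.mem_Qt.mpr ⟨D.conj_Q P.acts.1.cz (D.mem_Qt.mp hx).1,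
    ((D.mem_TC.mp sTC).mul_left (D.mem_Qt.mp hx).2).mul_left (D.mem_TC.mp sTC).inv_left⟩
  set K := D.KS h1 s3
  have hKTC : K ≤ D.TC := by
    rintro _ ⟨u, hu, n, rfl⟩
    exact mul_mem (D.qt_TC hu) (pow_mem sTC n)
  have cK : 729 ≤ Nat.card K := by
    let f : D.Qt × Fin 3 → K := fun p => ⟨p.1.1 * s ^ p.2.val, p.1.1, p.1.2, p.2.val, rfl⟩
    have hf : Function.Injective f := fun p p' e => by
      have e' : p.1.1 * s ^ p.2.val = p'.1.1 * s ^ p'.2.val := congrArg Subtype.val e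
      have key : ∀ (u u' : G) (i j : ℕ), i < j → j < 3 → u ∈ D.Q → u' ∈ D.Q → u * s ^ i = u' * s ^ j → False := by
        intro u u' i j hij hj hu hu' q
        obtain ⟨d, rfl⟩ : ∃ d, j = i + d := ⟨j - i, by omega⟩
        rw [add_comm, pow_add, ← mul_assoc] at q
        have hd : s ^ d ∈ D.Q := by
          rw [show s ^ d = u'⁻¹ * u by rw [mul_right_cancel q, inv_mul_cancel_left]]
          exact mul_mem (inv_mem hu') hu
        rcases (show d = 1 ∨ d = 2 by omega) with r | r <;> subst r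
        · exact sQ (by simpa using hd)
        · refine sQ ?_
          have := mul_mem hd hd
          rwa [← pow_add, show (2 + 2) = 3 + 1 from rfl, pow_add, s3, one_mul, pow_one] at this
      have q1 := (D.mem_Qt.mp p.1.2).1
      have q2 := (D.mem_Qt.mp p'.1.2).1
      have ei : p.2 = p'.2 := by
        rcases lt_trichotomy p.2.val p'.2.val with h | h | h
        exacts [(key _ _ _ _ h p'.2.2 q1 q2 e').elim, Fin.ext h, (key _ _ _ _ h p.2.2 q2 q1 e'.symm).elim]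
      rw [ei] at e'
      exact Prod.ext (Subtype.ext (mul_right_cancel e')) ei
    refine le_trans (le_of_eq ?_) (Nat.card_le_card_of_injective f hf)
    rw [Nat.card_prod, D.card_Qt, Nat.card_eq_fintype_card, Fintype.card_fin]
  have hKb : ∀ x ∈ K, ∃ n : ℕ, D.Img x (b ^ n) := by
    rintro _ ⟨u, hu, n, rfl⟩
    exact ⟨n, by simpa using (D.img_Q (D.mem_Qt.mp hu).1).mul ((D.img_acts P.acts).pow n)⟩
  -- the extension is a Sylow subgroup
  have b3 : b ^ 3 = 1 := by rw [pow_succ, pow_two]; exact P.cube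
  have hKp : IsPGroup 3 K := fun x => ⟨2, Subtype.ext (by
    obtain ⟨n, hI⟩ := hKb _ x.2
    have := hI.pow 3
    rw [← pow_mul, mul_comm, pow_mul, b3, one_pow] at this
    rw [Subgroup.coe_pow, pow_two, pow_mul]
    exact D.Q_cube this.mem_Q)⟩
  set K' := K.subgroupOf D.TC
  have hK' : IsPGroup 3 K' := hKp.of_equiv (Subgroup.subgroupOfEquivOfLe hKTC).symm
  obtain ⟨R, hR⟩ := hK'.exists_le_sylow
  have hRK : (R : Subgroup D.TC) = K' := by
    refine (Subgroup.eq_of_le_of_card_ge hR ?_).symm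
    rw [Nat.card_congr (Subgroup.subgroupOfEquivOfLe hKTC).toEquiv]
    refine le_trans ?_ cK
    obtain ⟨k, hk⟩ := IsPGroup.iff_card.mp R.isPGroup'
    have hd := Subgroup.card_subgroup_dvd_card (R : Subgroup D.TC)
    rw [hk] at hd ⊢
    by_contra hlt
    have k7 : 7 ≤ k := by
      by_contra q
      exact hlt ((Nat.pow_le_pow_right (by norm_num) (show k ≤ 6 by omega)).trans (by norm_num))
    have := dvd_trans (pow_dvd_pow 3 k7) hd
    rw [D.card_TC] at this
    refine D.card_bar ?_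
    rw [← D.UU.card_mul_index, D.card_UU, ← Subgroup.index_comap_of_surjective _ D.mk_surj]
    exact (Nat.Coprime.dvd_mul_left (by norm_num)).mp this
  have hEp : IsPGroup 3 E := fun x => ⟨1, Subtype.ext (by rw [Subgroup.coe_pow, pow_one]; exact h3 _ x.2)⟩
  obtain ⟨R', hR'⟩ := hEp.exists_le_sylow
  obtain ⟨t, ht⟩ := MulAction.exists_smul_eq D.TC R' R
  have hin : ∀ a ∈ E, ((t * a * t⁻¹ : D.TC) : G) ∈ K := fun a ha => by
    have h : t * a * t⁻¹ ∈ (R : Subgroup D.TC) := by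
      rw [← ht, Sylow.coe_subgroup_smul, Subgroup.mem_pointwise_smul_iff_inv_smul_mem]
      simpa [MulAut.smul_def, MulAut.conj_apply, mul_assoc] using hR' ha
    rw [hRK] at h
    exact h
  set A : Subgroup G := (E.map (MulAut.conj t).toMonoidHom).map D.TC.subtype
  have cA : Nat.card A = 27 := by
    rw [Subgroup.card_map_of_injective D.TC.subtype_injective, Subgroup.card_map_of_injective (MulEquiv.injective _), cE]
  have hAK : A ≤ K := by
    rintro _ ⟨_, ⟨a, ha, rfl⟩, rfl⟩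
    exact hin a ha
  suffices h : ∃ e ∈ A, ∃ c : G, e = c * D.z * c⁻¹ by
    obtain ⟨_, ⟨_, ⟨a, ha, rfl⟩, rfl⟩, c, hc'⟩ := h
    refine ⟨a, ha, (t : G)⁻¹ * c, ?_⟩
    have e : (a : G) = (t : G)⁻¹ * ((t : G) * (a : G) * (t : G)⁻¹) * (t : G) := by group
    rw [e, show (t : G) * (a : G) * (t : G)⁻¹ = c * D.z * c⁻¹ from hc']
    group
  have hA : D.Ab3 1 A := by
    refine ⟨fun a ha => ?_, fun a _ => Commute.one_right a, ?_, ?_⟩
    · obtain ⟨n, hI⟩ := hKb a (hAK ha)
      exact hI.1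
    · rintro _ ⟨_, ⟨a, ha, rfl⟩, rfl⟩
      rw [← map_pow, ← map_pow, h3 a ha, map_one, map_one]
    · rintro _ ⟨_, ⟨a, ha, rfl⟩, rfl⟩ _ ⟨_, ⟨a', ha', rfl⟩, rfl⟩
      exact ((hc a ha a' ha').map (MulAut.conj t).toMonoidHom).map D.TC.subtype
  by_cases hz : ∃ k : ZMod 3, k ≠ 0 ∧ D.zz k ∈ A
  · obtain ⟨k, hk, hkA⟩ := hz
    refine ⟨D.z, ?_, 1, by group⟩
    rw [← D.zz_one]
    rcases zmod_three_cases k hk with r | r
    · rwa [r] at hkA
    · rw [← r, D.zz_add]; exact mul_mem hkA hkA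
  push Not at hz
  -- the vectors
  have hV0 : ∀ v ∈ hA.vec, v 0 = 0 := by
    rintro v ⟨k, hk⟩
    obtain ⟨-, ht'⟩ := D.mem_Qt.mp (show D.zz k * D.q v ∈ D.Qt from D.mem_Qt.mpr
      ⟨D.zz_q_mem_Q k v, D.mem_TC.mp (hKTC (hAK hk))⟩)
    obtain ⟨a, w, hw, e⟩ := D.mem_Qt.mpr ⟨D.zz_q_mem_Q k v, ht'⟩
    rw [(D.el_inj e).2]
    exact hw
  have hker : Nat.card hA.hom.ker ≤ Nat.card hA.vec := by
    have hm : ∀ a : hA.hom.ker, ∃ v : V6, ∃ k : ZMod 3, ((a : A) : G) = D.zz k * D.q v := fun a => by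
      have h := D.im_spec (hA.z _ (a : A).2)
      rw [show D.im ((a : A) : G) = 1 from a.2] at h
      obtain ⟨k, v, e⟩ := h.mem_Q
      exact ⟨v, k, e⟩
    choose v k hkv using hm
    refine Nat.card_le_card_of_injective (fun a => (⟨v a, k a, hkv a ▸ (a : A).2⟩ : hA.vec)) fun a a' e => ?_
    have ev : v a = v a' := congrArg Subtype.val e
    have ek : k a - k a' = 0 := by
      by_contra q
      refine hz _ q ?_
      have := mul_mem (a : A).2 (inv_mem (a' : A).2)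
      rw [hkv a, hkv a', ev, mul_inv_rev, mul_assoc (D.zz (k a)), mul_inv_cancel_left, ← D.zz_neg, ← D.zz_add,
        ← sub_eq_add_neg] at this
      exact this
    exact Subtype.ext (Subtype.ext (by rw [hkv a, hkv a', ev, sub_eq_zero.mp ek]))
  have hrange : ∀ B ∈ hA.hom.range, ∃ n : ℕ, B = b ^ n := by
    rintro _ ⟨a, rfl⟩
    obtain ⟨n, hI⟩ := hKb _ (hAK a.2)
    exact ⟨n, D.im_eq hI⟩
  have hr3 : Nat.card hA.hom.range ≤ 3 := by
    refine (Subgroup.card_le_of_le (K := Subgroup.zpowers b) fun B hB => ?_).trans ?_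
    · obtain ⟨n, rfl⟩ := hrange B hB; exact pow_mem (Subgroup.mem_zpowers b) n
    · rw [Nat.card_zpowers]; exact orderOf_le_of_pow_eq_one (by norm_num) b3
  have hbound : Nat.card hA.vec ≤ 9 := by
    refine fix_bound (b := sB (one1 0)) _ hA.vec_iso (fun v hv => (one1_app v).mpr (hV0 v hv))
      (l := emb 0 (1, 0)) (fun e => ?_) (funext fun i => ?_)
    · have := congrFun e 0
      rw [emb_self] at this
      exact v2_ne this
    · rw [sB_app, Pi.neg_apply]
      by_cases h : i = 0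
      · subst h; simp [one1]
      · simp [one1, h, emb_ne h]
  have hmul := hA.hom.ker.card_mul_index
  rw [Subgroup.index_ker, cA] at hmul
  have hvec : Nat.card hA.vec = 9 := by
    have := Nat.mul_le_mul hker hr3
    omega
  obtain ⟨a1, ha1, e1I⟩ : ∃ a1 ∈ A, D.Img a1 b := by
    have hex : ∃ B ∈ hA.hom.range, B ≠ 1 := by
      by_contra q
      push Not at q
      have : Nat.card hA.hom.range = 1 := by
        rw [(Subgroup.eq_bot_iff_forall _).mpr q]; exact Subgroup.card_bot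
      rw [this, mul_one] at hmul
      omega
    obtain ⟨B, hB, B1⟩ := hex
    obtain ⟨n, rfl⟩ := hrange B hB
    obtain ⟨a, ha⟩ := hB
    have hI : D.Img (a : G) (b ^ n) := (show D.im (a : G) = b ^ n from ha) ▸ D.im_spec (hA.z _ a.2)
    have hn : b ^ n = b ^ (n % 3) := by
      conv_lhs => rw [← Nat.mod_add_div n 3, pow_add, pow_mul, b3, one_pow, mul_one]
    rw [hn] at B1 hI
    rcases (show n % 3 = 0 ∨ n % 3 = 1 ∨ n % 3 = 2 by omega) with r | r | r <;> rw [r] at B1 hI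
    · exact absurd (pow_zero b) B1
    · exact ⟨a, a.2, by simpa using hI⟩
    · refine ⟨(a : G) * a, mul_mem a.2 a.2, ?_⟩
      have := hI.mul hI
      rwa [← pow_add, show (2 + 2) = 3 + 1 from rfl, pow_add, b3, one_mul, pow_one] at this
  obtain ⟨⟨γ, x, hxQ, hx0⟩⟩ : Nonempty (Σ' (γ : ZMod 3) (x : V6), a1 = D.zz γ * D.q x * s ∧ x 0 = 0) := by
    obtain ⟨u, hu, n, e⟩ := hAK ha1
    have hn : s ^ n = s ^ (n % 3) := by
      conv_lhs => rw [← Nat.mod_add_div n 3, pow_add, pow_mul, s3, one_pow, mul_one]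
    rw [hn] at e
    have hI' := (D.img_Q (D.mem_Qt.mp hu).1).mul ((D.img_acts P.acts).pow (n % 3))
    rw [← e, one_mul] at hI'
    have hb := e1I.unique hI'
    obtain ⟨a, v, hv, rfl⟩ := hu
    rcases (show n % 3 = 0 ∨ n % 3 = 1 ∨ n % 3 = 2 by omega) with r | r | r <;> rw [r] at hb e
    · exact absurd (hb.trans (pow_zero b)) P.ne
    · exact ⟨⟨a, v, by rw [e, pow_one], hv⟩⟩
    · rw [pow_two] at hb
      exact absurd (mul_eq_left.mp hb.symm) P.ne
  have bfull := D.const_full ⟨s, P.acts⟩ hπ P.cube P.ne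
  choose hax hfx hline _hpre using fun i => ax_spec _ (bk_cube_g P.cube hπ i) (bfull i)
  have hq_comm : ∀ w ∈ hA.vec, Commute a1 (D.q w) := by
    rintro w ⟨k, hk⟩
    have := ((D.zz_comm (hA.z _ ha1) k).inv_right).mul_right (hA.comm _ ha1 _ hk)
    rwa [inv_mul_cancel_left] at this
  have hwfix : ∀ w ∈ hA.vec, appB b w = w := fun w hw => by
    obtain ⟨n, hn⟩ := e1I.2 w
    rw [(hq_comm w hw).eq, mul_inv_cancel_right] at hn
    exact (D.el_inj (((by rw [D.zz_zero, one_mul]) : D.zz 0 * D.q w = D.q w).trans hn)).2.symm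
  set W : ZMod 3 → ZMod 3 → V6 := fun n m => emb 1 (n • ax (b.g 1)) + emb 2 (m • ax (b.g 2)) with hW
  have hW0 : ∀ n m, W n m 0 = 0 := fun n m => by
    simp [hW, emb_ne (show (0 : Fin 3) ≠ 1 by decide), emb_ne (show (0 : Fin 3) ≠ 2 by decide)]
  have hW12 : ∀ n m, W n m 1 = n • ax (b.g 1) ∧ W n m 2 = m • ax (b.g 2) := fun n m => by
    simp [hW, emb_self, emb_ne (show (1 : Fin 3) ≠ 2 by decide), emb_ne (show (2 : Fin 3) ≠ 1 by decide)]
  have hext : ∀ v : V6, v 0 = 0 → ∀ n m, v 1 = n • ax (b.g 1) → v 2 = m • ax (b.g 2) → v = W n m := by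
    intro v h0 n m h1' h2'
    funext i
    fin_cases i
    exacts [h0.trans (hW0 n m).symm, h1'.trans (hW12 n m).1.symm, h2'.trans (hW12 n m).2.symm]
  have hall : ∀ n m, W n m ∈ hA.vec := by
    have hrep : ∀ w : hA.vec, ∃ p : ZMod 3 × ZMod 3, (w : V6) = W p.1 p.2 := fun w => by
      obtain ⟨n, hn⟩ := hline 1 ((w : V6) 1) (by rw [← appB_diag hπ, hwfix _ w.2])
      obtain ⟨m, hm⟩ := hline 2 ((w : V6) 2) (by rw [← appB_diag hπ, hwfix _ w.2])
      exact ⟨(n, m), hext _ (hV0 _ w.2) n m hn hm⟩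
    choose p hp using hrep
    have hp2 : Function.Injective p := fun w w' e => Subtype.ext (by rw [hp w, hp w', e])
    have hb : Function.Bijective p := (Nat.bijective_iff_injective_and_card _).mpr
      ⟨hp2, by rw [hvec, Nat.card_prod, Nat.card_zmod]⟩
    intro n m
    obtain ⟨w, hw⟩ := hb.2 (n, m)
    rw [show W n m = (w : V6) by rw [hp w, hw]]
    exact w.2
  -- the vector of the outer element
  have hperp : ∀ w ∈ hA.vec, om x w = 0 := fun w hw => by
    have hsw : Commute s (D.q w) := P.acts.comm_q (hwfix w hw)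
    have h' := hq_comm w hw
    rw [hxQ] at h'
    have h2 : Commute (D.q x) (D.q w) := by
      have h3 := ((D.zz_q γ w).inv_left).mul_left (h'.mul_left hsw.inv_left)
      rwa [mul_inv_cancel_right, inv_mul_cancel_left] at h3
    exact D.q_comm.mp h2
  obtain ⟨n1, hn1⟩ : ∃ n, x 1 = n • ax (b.g 1) := by
    refine det2_line_iff _ _ (hax 1) ?_
    have := hperp _ (hall 1 0)
    simpa [hW, om_add_right, om_emb, zero_smul, (fun a : V2 => (det2_zero_arg a).2)] using this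
  obtain ⟨n2, hn2⟩ : ∃ n, x 2 = n • ax (b.g 2) := by
    refine det2_line_iff _ _ (hax 2) ?_
    have := hperp _ (hall 0 1)
    simpa [hW, om_add_right, om_emb, zero_smul, (fun a : V2 => (det2_zero_arg a).2)] using this
  have hxW : x ∈ hA.vec := hext x hx0 n1 n2 hn1 hn2 ▸ hall n1 n2
  obtain ⟨kx, hkx⟩ := hxW
  have hs_el : D.zz (γ - kx) * s ∈ A := by
    have h := mul_mem (inv_mem hkx) ha1
    have e : (D.zz kx * D.q x)⁻¹ * a1 = D.zz (γ - kx) * s := by
      rw [hxQ, mul_inv_rev, sub_eq_add_neg, add_comm, D.zz_add, D.zz_neg,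
        show (D.q x)⁻¹ * (D.zz kx)⁻¹ * (D.zz γ * D.q x * s) = (D.q x)⁻¹ * ((D.zz kx)⁻¹ * D.zz γ * D.q x) * s by group,
        ((D.zz_q kx x).inv_left.mul_left (D.zz_q γ x)).eq, inv_mul_cancel_left]
    rwa [e] at h
  obtain ⟨α, hα⟩ := hall 1 0
  obtain ⟨β, hβ⟩ := hall 0 1
  have hsm : ∀ n : ZMod 3, n • W 1 0 = W n 0 ∧ n • W 0 1 = W 0 n := fun n => by
    constructor <;> funext i <;>
      by_cases h1' : i = 1 <;> by_cases h2' : i = 2 <;> simp [hW, emb, h1', h2', smul_smul]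
  obtain ⟨μ, hμ, hquad1⟩ := ax_quad _ (bk_cube_g P.cube hπ 1) (bfull 1)
  obtain ⟨ν, hν, hquad2⟩ := ax_quad _ (bk_cube_g P.cube hπ 2) (bfull 2)
  obtain ⟨n, m, hnm⟩ := quad_hit μ ν α β (γ - kx) hμ hν
  obtain ⟨c1, hc1, hd1⟩ := hquad1 n
  obtain ⟨c2, hc2, hd2⟩ := hquad2 m
  set v : V6 := emb 1 c1 + emb 2 c2 with hv
  have hsub : v - appB b v = W n m := by
    refine hext _ ?_ n m ?_ ?_
    · rw [Pi.sub_apply, appB_diag hπ]
      simp [hv, emb_ne (show (0 : Fin 3) ≠ 1 by decide), emb_ne (show (0 : Fin 3) ≠ 2 by decide), app2_zero]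
    · rw [Pi.sub_apply, appB_diag hπ]
      simpa [hv, emb_self, emb_ne (show (1 : Fin 3) ≠ 2 by decide)] using hc1
    · rw [Pi.sub_apply, appB_diag hπ]
      simpa [hv, emb_self, emb_ne (show (2 : Fin 3) ≠ 1 by decide)] using hc2
  have hom : om v (appB b v) = μ * n * n + ν * m * m := by
    rw [hv, appB_add, om_add_right, appB_emb_diag hπ, appB_emb_diag hπ, om_emb, om_emb, Pi.add_apply, Pi.add_apply,
      emb_self, emb_self, emb_ne (show (1 : Fin 3) ≠ 2 by decide), emb_ne (show (2 : Fin 3) ≠ 1 by decide), add_zero,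
      zero_add, hd1, hd2]
  refine ⟨D.zz (α * n + β * m) * D.q (W n m) * (D.zz (γ - kx) * s), mul_mem ?_ hs_el, D.q v * g, ?_⟩
  · have h := mul_mem (pow_mem hα n.val) (pow_mem hβ m.val)
    have hadd : W n 0 + W 0 m = W n m := by
      refine hext _ ?_ n m ?_ ?_
      · rw [Pi.add_apply, hW0, hW0, add_zero]
      · rw [Pi.add_apply, (hW12 n 0).1, (hW12 0 m).1, zero_smul, add_zero]
      · rw [Pi.add_apply, (hW12 n 0).2, (hW12 0 m).2, zero_smul, zero_add]
    have hom0 : om (W n 0) (W 0 m) = 0 := by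
      simp only [om, hW0, (hW12 n 0).1, (hW12 0 m).1, (hW12 n 0).2, (hW12 0 m).2, zero_smul, (det2_zero_arg _).1,
        (det2_zero_arg _).2, add_zero]
    rw [D.zz_smul_q, D.zz_smul_q, (hsm n).1, (hsm m).2, mul_assoc (D.zz _), ← mul_assoc (D.q _), ← (D.zz_q _ _).eq,
      mul_assoc (D.zz _) (D.q _), D.q_mul', ← mul_assoc, ← D.zz_add, ← mul_assoc, ← D.zz_add, hadd, hom0, neg_zero,
      add_zero, mul_comm n α, mul_comm m β] at h
    exact h
  · rw [show D.q v * g * D.z * (D.q v * g)⁻¹ = D.q v * (g * D.z * g⁻¹) * (D.q v)⁻¹ by group, e0, D.qv_conj P.acts,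
      hsub, hom, hnm, D.zz_add (α * n + β * m) (γ - kx)]
    rw [mul_assoc (D.zz (α * n + β * m)) (D.q (W n m)), ← mul_assoc (D.q (W n m)), ← (D.zz_q _ _).eq]
    simp only [mul_assoc]

end Setting

end CfsgLib.Fi22Loc
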