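import Cfsg.Agent.Lib.Fi22Loc.Member.Elem27

/-!
No member inverts the central element.
-/

set_option autoImplicit false
set_option linter.unusedSectionVars false
set_option synthInstance.maxSize 1024

namespace CfsgLib.Fi22Loc

open CfsgLib.U6Three (V2 SL23 det2 app2)

universe u

theorem centraliser_quat : ∀ a : SL23, a * a * a = 1 → a * qA * a⁻¹ = qA → a * qX * a⁻¹ = qX → a = 1 := by
  decide +kernel

theorem qA_ne_one : qA ≠ 1 := by decide +kernel

theorem zmod_three_half : ∀ n : ZMod 3, -(-n) + n = -n := by decide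

theorem v2_self_neg : ∀ x : V2, x = -x → x = 0 := by decide +kernel

theorem zmod_three_double : ∀ c : ZMod 3, -c = c → c = 0 := by decide

namespace Setting

variable {G : Type u} [Group G] (D : Setting G)

theorem inv_comm_z {g x : G} (hg : g * D.z * g⁻¹ = D.z⁻¹) (hx : Commute x D.z) : Commute (g * x * g⁻¹) D.z := by
  have h := hx.map (MulAut.conj g).toMonoidHom
  simp only [MulEquiv.coe_toMonoidHom, MulAut.conj_apply, hg] at h
  simpa using h.inv_right

variable [Finite G]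

/-- The core is kept by elements inverting the central element. -/
theorem inv_conj_Q {g : G} (hg : g * D.z * g⁻¹ = D.z⁻¹) (g2 : g * g = 1) {x : G} (hx : x ∈ D.Q) :
    g * x * g⁻¹ ∈ D.Q := by
  have hy : Commute (g * x * g⁻¹) D.z := D.inv_comm_z hg (D.Q_z hx)
  set B := D.im (g * x * g⁻¹) with hB
  have hI : D.Img (g * x * g⁻¹) B := D.im_spec hy
  have hB3 : B * B * B = 1 := D.img_cube hI (by rw [conj_pow, D.Q_cube hx, mul_one, mul_inv_cancel])
  have key : ∀ w, D.Pq w → ∀ i, B.g i * w (B.π.symm i) * (B.g i)⁻¹ = w i := by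
    intro w hw i
    obtain ⟨s, hs⟩ := hw.2
    have hz : Commute (g⁻¹ * s * g) D.z := by
      have := D.inv_comm_z (g := g⁻¹) (x := s) (by rw [inv_eq_of_mul_eq_one_right g2]; exact hg) hs.1.cz
      simpa using this
    have hmem : (g⁻¹ * s * g) * x⁻¹ * (g⁻¹ * s * g)⁻¹ ∈ D.Q := D.conj_Q hz (inv_mem hx)
    have hI2 := ((hI.mul (D.img_acts hs)).mul hI.inv).mul (D.img_acts hs).inv
    have hcube : (g * x * g⁻¹ * s * (g * x * g⁻¹)⁻¹ * s⁻¹) ^ 3 = 1 := by
      rw [show g * x * g⁻¹ * s * (g * x * g⁻¹)⁻¹ * s⁻¹ =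
        g * (x * (g⁻¹ * s * g * x⁻¹ * (g⁻¹ * s * g)⁻¹)) * g⁻¹ by group, conj_pow, D.Q_cube (mul_mem hx hmem), mul_one,
        mul_inv_cancel]
    have h3 := D.img_cube hI2 hcube
    rw [conj_dg] at h3
    set f : Fin 3 → SL23 := fun i => B.g i * w (B.π.symm i) * (B.g i)⁻¹
    rw [dg_inv, dg_mul, dg_mul, dg_mul, ← dg_one] at h3
    have e := congrFun (dg_inj h3) i
    simp only [Pi.mul_apply, Pi.inv_apply, Pi.one_apply] at e
    refine mul_inv_eq_one.mp (ψ_three _ e ?_)
    rw [ψ_mul, ψ_inv_zero (hw.1 i), add_zero, ψ_conj]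
    exact hw.1 _
  have hπ : B.π = 1 := by
    refine Equiv.ext fun j => ?_
    by_contra hne
    obtain ⟨w, hw, wa, wb⟩ := D.pq_pair qA 1 ψ_qA ψ_one (i := j) (j := B.π j) (Ne.symm hne)
    have := key w hw (B.π j)
    rw [Equiv.symm_apply_apply, wa, wb, conj_eq_one_iff] at this
    exact qA_ne_one this
  refine Img.mem_Q (?_ : D.Img (g * x * g⁻¹) 1)
  rwa [show (1 : Bk) = B from (Bk.ext' hπ fun i => ?_).symm]
  obtain ⟨qX0, -⟩ := qX_facts
  obtain ⟨i', hi'⟩ : ∃ i' : Fin 3, i ≠ i' := (by decide : ∀ i : Fin 3, ∃ i' : Fin 3, i ≠ i') i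
  obtain ⟨w, hw, wa, -⟩ := D.pq_pair qA qA ψ_qA ψ_qA hi'
  obtain ⟨w', hw', wa', -⟩ := D.pq_pair qX qA qX0 ψ_qA hi'
  have k1 := key w hw i
  have k2 := key w' hw' i
  have hs : B.π.symm i = i := by rw [hπ]; rfl
  rw [hs, wa] at k1
  rw [hs, wa'] at k2
  exact centraliser_quat _ (bk_cube_g hB3 hπ i) k1 k2

/-- No member inverts the central element. -/
theorem no_invert {u : G} (hm : D.Mem u) (hu : u * D.z * u⁻¹ = D.z⁻¹) : False := by
  classical
  haveI : Fact (Nat.Prime 3) := ⟨Nat.prime_three⟩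
  have u2 := hm.sq.1
  have hQ := fun x (hx : x ∈ D.Q) => D.inv_conj_Q hu u2 hx
  have hk : ∀ v, ∃ (n : ZMod 3) (w : V6), u * D.q v * u⁻¹ = D.zz n * D.q w := fun v => hQ _ (D.q_mem v)
  choose n β hnβ using hk
  have hzz : ∀ k, u * D.zz k * u⁻¹ = D.zz (-k) := fun k => by
    rw [zz, ← conj_pow, hu, inv_pow, ← zz, D.zz_neg]
  have hgen : ∀ k v, u * (D.zz k * D.q v) * u⁻¹ = D.zz (-k + n v) * D.q (β v) := fun k v => by
    rw [show u * (D.zz k * D.q v) * u⁻¹ = u * D.zz k * u⁻¹ * (u * D.q v * u⁻¹) by group, hzz, hnβ, ← mul_assoc,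
      ← D.zz_add]
  have hadd : ∀ v w, β (v + w) = β v + β w := fun v w => by
    have e : u * (D.q v * D.q w) * u⁻¹ = u * D.q v * u⁻¹ * (u * D.q w * u⁻¹) := by group
    rw [D.q_mul', hgen, hnβ, hnβ, mul_assoc (D.zz (n v)), ← mul_assoc (D.q _), ← (D.zz_q _ _).eq,
      mul_assoc (D.zz _) (D.q _), D.q_mul', ← mul_assoc, ← D.zz_add, ← mul_assoc, ← D.zz_add] at e
    exact (D.el_inj e).2
  have hinv : ∀ v, β (β v) = v := fun v => by
    have e : u * (u * D.q v * u⁻¹) * u⁻¹ = D.zz 0 * D.q v := by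
      rw [show u * (u * D.q v * u⁻¹) * u⁻¹ = (u * u) * D.q v * (u * u)⁻¹ by group, u2, D.zz_zero]; group
    rw [hnβ, hgen] at e
    exact (D.el_inj e).2
  have hom : ∀ v w, om (β v) (β w) = -om v w := fun v w => by
    have e : u * (D.q v * D.q w * (D.q v)⁻¹) * u⁻¹ = u * D.q v * u⁻¹ * (u * D.q w * u⁻¹) * (u * D.q v * u⁻¹)⁻¹ := by
      group
    rw [D.q_conj, hgen, hnβ, hnβ,
      show D.zz (n v) * D.q (β v) * (D.zz (n w) * D.q (β w)) * (D.zz (n v) * D.q (β v))⁻¹ =
        D.zz (n v) * (D.q (β v) * D.zz (n w) * (D.q (β v))⁻¹ * (D.q (β v) * D.q (β w) * (D.q (β v))⁻¹)) *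
          (D.zz (n v))⁻¹ by group,
      D.conj_zz (D.q_z _), D.q_conj, ← mul_assoc (D.zz _) (D.zz _), ← D.zz_add, ← mul_assoc (D.zz _) (D.zz _),
      ← D.zz_add, mul_assoc (D.zz _) (D.q _), ← ((D.zz_q _ _).inv_left).eq, ← mul_assoc, ← D.zz_neg, ← D.zz_add] at e
    have := (D.el_inj e).1
    linear_combination -this
  -- the fixed and the inverted vectors
  let F : AddSubgroup V6 :=
    { carrier := {v | β v = v}
      zero_mem' := by have := hadd 0 0; simpa using this
      add_mem' := fun {a b} (ha : β a = a) (hb : β b = b) => show β (a + b) = a + b by rw [hadd, ha, hb]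
      neg_mem' := fun {a} (ha : β a = a) => show β (-a) = -a by
        have h0 : β 0 = 0 := by have := hadd 0 0; simpa using this
        have := hadd a (-a)
        rw [add_neg_cancel, h0, ha] at this
        exact eq_neg_of_add_eq_zero_right this.symm }
  let N : AddSubgroup V6 :=
    { carrier := {v | β v = -v}
      zero_mem' := by have := hadd 0 0; simpa using this
      add_mem' := fun {a b} (ha : β a = -a) (hb : β b = -b) => show β (a + b) = -(a + b) by
        rw [hadd, ha, hb, neg_add]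
      neg_mem' := fun {a} (ha : β a = -a) => show β (-a) = - -a by
        have h0 : β 0 = 0 := by have := hadd 0 0; simpa using this
        have := hadd a (-a)
        rw [add_neg_cancel, h0, ha] at this
        exact eq_neg_of_add_eq_zero_right this.symm }
  have isoF : ∀ v ∈ F, ∀ w ∈ F, om v w = 0 := fun v hv w hw => by
    have h := hom v w
    rw [show β v = v from hv, show β w = w from hw] at h
    exact zmod_three_double _ h.symm
  have isoN : ∀ v ∈ N, ∀ w ∈ N, om v w = 0 := fun v hv w hw => by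
    have h := hom v w
    rw [show β v = -v from hv, show β w = -w from hw, om_neg_left, om_neg_right, neg_neg] at h
    exact zmod_three_double _ h.symm
  have hF27 : 27 ≤ Nat.card F := by
    have hsur : Function.Surjective fun p : F × N => (p.1 : V6) + (p.2 : V6) := fun v => by
      have hneg : β (-v) = -β v := by
        have h0 : β 0 = 0 := by have := hadd 0 0; simpa using this
        have := hadd v (-v)
        rw [add_neg_cancel, h0] at this
        exact eq_neg_of_add_eq_zero_right this.symm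
      have hnn : β (-β v) = -v := by
        have h0 : β 0 = 0 := by have := hadd 0 0; simpa using this
        have := hadd (β v) (-β v)
        rw [add_neg_cancel, h0, hinv] at this
        exact eq_neg_of_add_eq_zero_right this.symm
      refine ⟨(⟨-v + -β v, ?_⟩, ⟨-v + β v, ?_⟩), ?_⟩
      · show β (-v + -β v) = -v + -β v
        rw [hadd, hneg, hnn, add_comm]
      · show β (-v + β v) = -(-v + β v)
        rw [hadd, hneg, hinv, neg_add, neg_neg, add_comm]
      · show -v + -β v + (-v + β v) = v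
        rw [show -v + -β v + (-v + β v) = -v + -v by abel, V6_half]
    have h := Nat.card_le_card_of_surjective _ hsur
    rw [card_V6, Nat.card_prod] at h
    have := iso_bound N isoN
    by_contra q
    have := Nat.mul_le_mul (show Nat.card F ≤ 26 by omega) this
    omega
  -- the centraliser in the core
  set X : Subgroup G := D.Q ⊓ Subgroup.centralizer ({u} : Set G)
  have hXc : 27 ≤ Nat.card X := by
    let f : F → X := fun v => ⟨D.zz (-n v) * D.q v, D.zz_q_mem_Q _ _, Subgroup.mem_centralizer_singleton_iff.mpr (by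
      have e := hgen (-n v) v
      rw [show β (v : V6) = v from v.2, zmod_three_half] at e
      exact (mul_inv_eq_iff_eq_mul.mp e).symm)⟩
    refine hF27.trans (Nat.card_le_card_of_injective f fun v w e => Subtype.ext ?_)
    exact (D.el_inj (congrArg Subtype.val e)).2
  have hXp : IsPGroup 3 X := fun x => ⟨1, Subtype.ext (by rw [Subgroup.coe_pow, pow_one]; exact D.Q_cube x.2.1)⟩
  obtain ⟨k, hk⟩ := IsPGroup.iff_card.mp hXp
  have h3 : 3 ^ 3 ∣ Nat.card X := by
    rw [hk] at hXc ⊢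
    refine pow_dvd_pow 3 ?_
    by_contra q
    have := Nat.pow_le_pow_right (show 0 < 3 by norm_num) (show k ≤ 2 by omega)
    omega
  obtain ⟨X1, hX1⟩ := Sylow.exists_subgroup_card_pow_prime 3 h3
  have cz_one : ∀ c, Commute (D.zz c) u → c = 0 := fun c hc => by
    have e := hzz c
    rw [← hc.eq, mul_inv_cancel_right] at e
    exact zmod_three_double _ (D.zz_inj e).symm
  have hXcomm : ∀ a ∈ X, ∀ a' ∈ X, Commute a a' := by
    intro a ha a' ha'
    obtain ⟨k, v, rfl⟩ := ha.1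
    obtain ⟨l, w, rfl⟩ := ha'.1
    have hu1 : Commute (D.zz k * D.q v) u := Subgroup.mem_centralizer_singleton_iff.mp ha.2
    have hu2 : Commute (D.zz l * D.q w) u := Subgroup.mem_centralizer_singleton_iff.mp ha'.2
    have e1 := hgen k v
    rw [← hu1.eq, mul_inv_cancel_right] at e1
    have e2 := hgen l w
    rw [← hu2.eq, mul_inv_cancel_right] at e2
    have hv : β v = v := (D.el_inj e1).2.symm
    have hw : β w = w := (D.el_inj e2).2.symm
    have h0 : om v w = 0 := isoF v hv w hw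
    have hq : Commute (D.q v) (D.q w) := D.q_comm.mpr h0
    have c1 : Commute (D.zz k * D.q v) (D.zz l) := by
      refine (((Commute.refl D.z).pow_left _).pow_right _ : Commute (D.zz k) (D.zz l)).mul_left (D.zz_q l v).symm
    exact c1.mul_right ((D.zz_q k w).mul_left hq)
  obtain ⟨g, eg⟩ := hm
  set T := ((X1.map X.subtype).map (MulAut.conj g⁻¹).toMonoidHom)
  have hT : T ≤ D.TC := by
    rintro _ ⟨_, ⟨x, -, rfl⟩, rfl⟩
    refine D.mem_TC.mpr ?_
    have hc : Commute (x : G) u := Subgroup.mem_centralizer_singleton_iff.mp x.2.2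
    have := hc.map (MulAut.conj g⁻¹).toMonoidHom
    simpa [eg, mul_assoc] using this
  obtain ⟨e, he, c, hec⟩ := D.elem27 (E := T.subgroupOf D.TC) (by
      rw [Nat.card_congr (Subgroup.subgroupOfEquivOfLe hT).toEquiv, Subgroup.card_map_of_injective (MulEquiv.injective _),
        Subgroup.card_map_of_injective X.subtype_injective, hX1]
      norm_num)
    (fun a ha => by
      obtain ⟨_, ⟨x, -, rfl⟩, ex⟩ := Subgroup.mem_subgroupOf.mp ha
      refine Subtype.ext ?_
      rw [Subgroup.coe_pow, ← ex, ← map_pow]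
      simp [D.Q_cube x.2.1])
    (fun a ha a' ha' => by
      obtain ⟨_, ⟨x, -, rfl⟩, ex⟩ := Subgroup.mem_subgroupOf.mp ha
      obtain ⟨_, ⟨x', -, rfl⟩, ex'⟩ := Subgroup.mem_subgroupOf.mp ha'
      refine Subtype.ext ?_
      show (a : G) * (a' : G) = (a' : G) * (a : G)
      rw [← ex, ← ex']
      exact ((hXcomm _ x.2 _ x'.2).map (MulAut.conj g⁻¹).toMonoidHom).eq)
  obtain ⟨_, ⟨x, -, rfl⟩, ex⟩ := Subgroup.mem_subgroupOf.mp he
  have hx : (x : G) = (g * c) * D.z * (g * c)⁻¹ := by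
    calc (x : G) = g * ((MulAut.conj g⁻¹).toMonoidHom (X.subtype x)) * g⁻¹ := by simp [mul_assoc]
      _ = g * (c * D.z * c⁻¹) * g⁻¹ := by rw [ex]; exact congrArg (fun y => g * y * g⁻¹) hec
      _ = _ := by group
  obtain ⟨k', v, hkv⟩ := x.2.1
  have hxu : Commute (x : G) u := Subgroup.mem_centralizer_singleton_iff.mp x.2.2
  have hv : v ≠ 0 := fun e0 => by
    rw [e0, D.q_zero, mul_one] at hkv
    have hk0 := cz_one k' (hkv ▸ hxu)
    rw [hk0, D.zz_zero, hx] at hkv
    exact D.z_ne (conj_eq_one_iff.mp hkv)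
  set f := g * c
  obtain ⟨k2, v2, P'⟩ := CPt.partner (D := D) (g := f) (k := k') (v := v) ⟨hx ▸ hkv, hv⟩
  have e2 : f⁻¹ * D.z * f = D.zz k2 * D.q v2 := by simpa using P'.1
  have hu' : Commute (f⁻¹ * u * f) D.z := D.conj_back (g := f) (hx ▸ hxu.symm)
  have hm' : D.Mem (f⁻¹ * u * f) := by simpa using (Mem.conj (⟨g, eg⟩ : D.Mem u) f⁻¹)
  obtain ⟨i, hI⟩ := D.mem_class hm' hu'
  obtain ⟨m, hm2⟩ := hI.2 v2
  have e3 : f⁻¹ * u * f * D.q v2 * (f⁻¹ * u * f)⁻¹ = D.zz (-k2 + -k2) * D.q (-v2) := by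
    have h1 : f⁻¹ * u * f * (D.zz k2 * D.q v2) * (f⁻¹ * u * f)⁻¹ = (D.zz k2 * D.q v2)⁻¹ := by
      rw [← e2, show f⁻¹ * u * f * (f⁻¹ * D.z * f) * (f⁻¹ * u * f)⁻¹ = f⁻¹ * (u * D.z * u⁻¹) * f by group, hu]
      group
    rw [show f⁻¹ * u * f * (D.zz k2 * D.q v2) * (f⁻¹ * u * f)⁻¹ =
      f⁻¹ * u * f * D.zz k2 * (f⁻¹ * u * f)⁻¹ * (f⁻¹ * u * f * D.q v2 * (f⁻¹ * u * f)⁻¹) by group, D.conj_zz hu',
      mul_inv_rev (D.zz k2) (D.q v2), D.q_inv, ← D.zz_neg, ← (D.zz_q (-k2) (-v2)).eq, ← eq_inv_mul_iff_mul_eq, ← D.zz_neg,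
      ← mul_assoc (D.zz (-k2)) (D.zz (-k2)), ← D.zz_add] at h1
    exact h1
  have hflip := (D.el_inj (hm2.symm.trans e3)).2
  obtain ⟨l, hl⟩ := (by decide : ∀ i : Fin 3, ∃ l : Fin 3, l ≠ i) i
  have := congrFun hflip l
  rw [sB_app] at this
  simp [one1, hl] at this
  exact D.full (g := f⁻¹) (k := k2) (v := v2) (by rw [inv_inv]; exact e2) P'.2 l
    (v2_self_neg _ this)

end Setting

end CfsgLib.Fi22Loc
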