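import Cfsg.Agent.Lib.Fi22Loc.Member.Invert

/-!
The members commuting with the involution of one plane are conjugate in its centraliser to the involutions of the
other planes.
-/

set_option autoImplicit false
set_option linter.unusedSectionVars false
set_option synthInstance.maxSize 1024

namespace CfsgLib.Fi22Loc

open CfsgLib.U6Three (V2 SL23 det2 app2)

universe u

namespace Setting

variable {G : Type u} [Group G] (D : Setting G) [Finite G]

/-- An involution of the centraliser keeps some conjugate of the central subgroup. -/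
theorem exists_kept {u : D.TC} (u2 : u * u = 1) :
    ∃ h : D.TC, u * (h * D.zT * h⁻¹) * u⁻¹ = h * D.zT * h⁻¹ ∨ u * (h * D.zT * h⁻¹) * u⁻¹ = (h * D.zT * h⁻¹)⁻¹ := by
  obtain ⟨U⟩ := D.exists_udata
  haveI := D.UU_normal
  let e : D.UU ≃* Cfsg.PSU 6 U.F 2 := U.e
  let γ : MulAut D.UU := MulAut.conjNormal (D.mkT u)
  let β : MulAut (Cfsg.PSU 6 U.F 2) := e.symm.trans (γ.trans e)
  have γ2 : ∀ x, γ (γ x) = x := fun x => by
    show (γ * γ) x = x
    simp only [γ, ← map_mul, u2, map_one, MulAut.one_apply]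
  have hβ : ∀ x, β (β x) = x := fun x => by
    show e (γ (e.symm (e (γ (e.symm x))))) = x
    rw [e.symm_apply_apply, γ2, e.apply_symm_apply]
  obtain ⟨z, -, -, hz, -, -⟩ := CfsgThreeTrans.M22.exists_zeta U.hF
  obtain ⟨v, hv, hcase⟩ := Geom.exists_normalised U.hF β hβ hz
  obtain ⟨g, hg⟩ := D.clsU_conj U hv hz
  set c := D.clsU U hv hz
  have hconj : D.mkT u * c * (D.mkT u)⁻¹ = c ∨ D.mkT u * c * (D.mkT u)⁻¹ = c⁻¹ := by
    have ec : ∀ x : D.UU, ((γ x : D.UU) : D.TC ⧸ D.NT) = D.mkT u * x * (D.mkT u)⁻¹ := fun x =>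
      MulAut.conjNormal_apply _ _
    have : γ (e.symm (Geom.cls U.hF hv hz)) = e.symm (β (Geom.cls U.hF hv hz)) := by
      show _ = e.symm (e _)
      rw [e.symm_apply_apply]
      rfl
    have h1 : D.mkT u * c * (D.mkT u)⁻¹ = ((e.symm (β (Geom.cls U.hF hv hz)) : D.UU) : D.TC ⧸ D.NT) := by
      rw [← this, ec]; rfl
    rcases hcase with r | r <;> rw [r] at h1
    · exact Or.inl h1
    · refine Or.inr (h1.trans ?_)
      rw [map_inv, Subgroup.coe_inv]; rfl
  obtain ⟨h, rfl⟩ := D.mk_surj g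
  have hcu : ∃ d : D.TC, d ^ 3 = 1 ∧ D.mkT d = c ∧ (d = h * D.zT * h⁻¹ ∨ d = (h * D.zT * h⁻¹)⁻¹) := by
    have h3 : (h * D.zT * h⁻¹) ^ 3 = 1 := by rw [conj_pow, D.zT_cube, mul_one, mul_inv_cancel]
    rcases hg with r | r
    · exact ⟨_, h3, by rw [r, map_mul, map_mul, map_inv]; rfl, Or.inl rfl⟩
    · refine ⟨_, by rw [inv_pow, h3, inv_one], ?_, Or.inr rfl⟩
      rw [r, map_inv, map_mul, map_mul, map_inv, conj_inv]; rfl
  obtain ⟨d, d3, dc, hd⟩ := hcu
  have hu : u * d * u⁻¹ = d ∨ u * d * u⁻¹ = d⁻¹ := by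
    have u3 : (u * d * u⁻¹) ^ 3 = 1 := by rw [conj_pow, d3, mul_one, mul_inv_cancel]
    rcases hconj with r | r
    · exact Or.inl (D.lift_eq u3 d3 (by rw [map_mul, map_mul, map_inv, dc]; exact r))
    · exact Or.inr (D.lift_eq u3 (by rw [inv_pow, d3, inv_one]) (by rw [map_mul, map_mul, map_inv, map_inv, dc]; exact r))
  refine ⟨h, ?_⟩
  set x := h * D.zT * h⁻¹
  rcases hd with rfl | rfl
  · exact hu
  · rcases hu with r | r
    · exact Or.inl (inv_injective (by rw [← conj_inv] at r; exact r))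
    · exact Or.inr (inv_injective (by rw [← conj_inv, inv_inv] at r; rw [r, inv_inv]))

/-- The members commuting with the involution, different from it. -/
theorem shape {u : G} (hm : D.Mem u) (hc : Commute u D.tt) (hne : u ≠ D.tt) :
    ∃ (h : D.TC) (k : Fin 3), k ≠ 0 ∧ u = h * D.sg (one1 k) * (h : G)⁻¹ := by
  obtain ⟨h, hk⟩ := D.exists_kept (u := ⟨u, D.mem_TC.mpr hc⟩) (Subtype.ext hm.sq.1)
  set u' : G := (h : G)⁻¹ * u * h
  have hm' : D.Mem u' := by simpa using hm.conj (h : G)⁻¹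
  have hct : Commute u' D.tt := ((D.mem_TC.mp h.2).inv_left.mul_left hc).mul_left (D.mem_TC.mp h.2)
  have hz : Commute u' D.z := by
    rcases hk with r | r
    · have e : u * ((h : G) * D.z * (h : G)⁻¹) * u⁻¹ = (h : G) * D.z * (h : G)⁻¹ := congrArg Subtype.val r
      refine mul_inv_eq_iff_eq_mul.mp ?_
      rw [show u' * D.z * u'⁻¹ = (h : G)⁻¹ * (u * ((h : G) * D.z * (h : G)⁻¹) * u⁻¹) * h by simp only [u']; group, e]
      group
    · exfalso
      refine D.no_invert hm' ?_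
      have e : u * ((h : G) * D.z * (h : G)⁻¹) * u⁻¹ = ((h : G) * D.z * (h : G)⁻¹)⁻¹ := congrArg Subtype.val r
      rw [show u' * D.z * u'⁻¹ = (h : G)⁻¹ * (u * ((h : G) * D.z * (h : G)⁻¹) * u⁻¹) * h by simp only [u']; group, e]
      group
  obtain ⟨k, hI⟩ := D.mem_class hm' hz
  obtain ⟨w, b, hb, hw, hl⟩ := D.to_levi hz hm'.sq.1
  obtain rfl := hI.unique hb
  have e1 : D.q w * u' * (D.q w)⁻¹ = D.sg (one1 k) := D.sg_unique hl ((hm'.conj _).sq.1)
  by_cases hk0 : k = 0
  · subst hk0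
    exfalso
    have hI2 := hI.mul (D.img_acts (D.sg_acts (one1 0)))
    rw [sB_sq] at hI2
    have h2 : u' * D.tt * (u' * D.tt) = 1 := by
      rw [show u' * D.tt * (u' * D.tt) = u' * (D.tt * u') * D.tt by group, ← hct.eq,
        show u' * (u' * D.tt) * D.tt = (u' * u') * (D.tt * D.tt) by group, hm'.sq.1, D.tt_sq, one_mul]
    have h3 := D.Q_cube hI2.mem_Q
    rw [pow_succ, pow_two] at h3
    rw [show u' * D.sg (one1 0) = u' * D.tt from rfl, h2, one_mul] at h3
    refine hne ?_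
    have e : u' = D.tt := (eq_inv_of_mul_eq_one_left h3).trans (inv_eq_of_mul_eq_one_right D.tt_sq)
    calc u = (h : G) * u' * (h : G)⁻¹ := by simp only [u']; group
      _ = D.tt := by rw [e, (D.mem_TC.mp h.2).eq, mul_inv_cancel_right]
  have hw0 : w 0 = 0 := by
    have := congrFun hw 0
    rw [sB_app, Pi.neg_apply] at this
    simp [one1, Ne.symm hk0] at this
    exact v2_self_neg _ this
  have hqT : D.q w ∈ D.TC := D.mem_TC.mpr ((D.sg_acts (one1 0)).comm_q ((one1_app w).mpr hw0)).symm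
  refine ⟨h * ⟨D.q w, hqT⟩⁻¹, k, hk0, ?_⟩
  rw [Subgroup.coe_mul, Subgroup.coe_inv, ← e1]
  simp only [u']
  group

end Setting

end CfsgLib.Fi22Loc
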