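import Cfsg.Agent.Lib.Fi22Loc.Member.Shape
import Cfsg.Agent.Lib.Fi22Loc.Geom.TuAut
import Cfsg.Agent.Lib.UnitaryTransConj

/-!
The members commuting with the involution lie in the derived subgroup of its centraliser and are the lifts of the
transvections, one for each point.
-/

set_option autoImplicit false
set_option linter.unusedSectionVars false
set_option synthInstance.maxSize 1024

namespace CfsgLib.Fi22Loc

open CfsgLib.U6Three (V2 SL23 det2 app2)
open CfsgThreeTrans.M22 (tu tu_conj)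

universe u

theorem third_of : ∀ k : Fin 3, k ≠ 0 → ∃ m : Fin 3, m ≠ 0 ∧ m ≠ k := by decide

theorem det2_basis : det2 ((1, 0) : V2) (0, 1) = 1 := by decide +kernel

theorem two_signs : ∀ k k' : Fin 3, k ≠ 0 → one1 k' ≠ fun i => xor (one1 k i) (one1 0 i) := by decide +kernel

theorem cycle_reach : ∀ p : Equiv.Perm (Fin 3), p * p * p = 1 → p ≠ 1 → ∀ k : Fin 3, k = 0 ∨ p 0 = k ∨ p (p 0) = k := by
  decide +kernel

theorem one1_perm : ∀ (p : Equiv.Perm (Fin 3)) (k : Fin 3), (fun i => one1 k (p.symm i)) = one1 (p k) := by decide +kernel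

namespace Setting

variable {G : Type u} [Group G] (D : Setting G)

theorem sg_conj {s : G} {b : Bk} (hs : D.Acts s b) (k : Fin 3) :
    s * D.sg (one1 k) * s⁻¹ = D.sg (one1 (b.π k)) := by
  rw [D.sg_comm hs, one1_perm]

/-- The involutions of the planes are members. -/
theorem sg_mem (k : Fin 3) : D.Mem (D.sg (one1 k)) := by
  obtain ⟨σ, ⟨s, hs⟩, hc, hne⟩ := D.exists_sigma
  have h0 : D.Mem (D.sg (one1 0)) := ⟨1, by rw [tt]; group⟩
  rcases cycle_reach _ hc hne k with r | r | r <;> subst r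
  · exact h0
  · rw [← D.sg_conj hs]; exact h0.conj _
  · rw [← D.sg_conj hs, ← D.sg_conj hs]; exact (h0.conj _).conj _

variable [Finite G]

theorem three_mem {a : D.TC} (h : a ^ 3 = 1) : a ∈ D.LL := by
  have h' := D.fourth_mem_L1 a
  rw [pow_succ, h, one_mul] at h'
  exact D.L1_eq.le h'

theorem tT_mem : (⟨D.tt, D.mem_TC.mpr (Commute.refl _)⟩ : D.TC) ∈ D.LL := D.L1_eq.le D.tt_mem

/-- The image of a member is a transvection. -/
theorem transv (U : UData D) {u : D.TC} (hm : D.Mem (u : G)) (hne : (u : G) ≠ D.tt) :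
    ∃ hL : u ∈ D.LL, ∃ w : Fin 6 → U.F, w ≠ 0 ∧ Cfsg.hermForm 6 U.F 2 w w = 0 ∧
      U.e ⟨D.mkT u, hL⟩ = QuotientGroup.mk' (Subgroup.center (Cfsg.SU 6 U.F 2)) (tu U.hF w) := by
  haveI := D.UU_normal
  obtain ⟨h, k, hk0, hu⟩ := D.shape hm (D.mem_TC.mp u.2) hne
  obtain ⟨hsk, hskL⟩ := D.sign_mem k
  set K : D.TC := ⟨D.sg (one1 k), hsk⟩
  have hKL : K ∈ D.LL := D.L1_eq.le hskL
  have eu : u = h * K * h⁻¹ := Subtype.ext hu
  have hL : u ∈ D.LL := eu ▸ D.LL_normal.conj_mem _ hKL h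
  refine ⟨hL, ?_⟩
  obtain ⟨m, hm0, hmk⟩ := third_of k hk0
  have hq : ∀ x : V2, D.q (emb m x) ∈ D.Qt := fun x => ⟨0, _, emb_ne (Ne.symm hm0) x, by rw [D.zz_zero, one_mul]⟩
  set A : D.TC := ⟨D.q (emb m (1, 0)), D.qt_TC (hq _)⟩
  set B : D.TC := ⟨D.q (emb m (0, 1)), D.qt_TC (hq _)⟩
  have hK : ∀ x : V2, Commute (D.sg (one1 k)) (D.q (emb m x)) := fun x => (D.sg_acts (one1 k)).comm_q (funext fun i => by
    rw [sB_app]
    by_cases hi : i = k
    · subst hi; simp [one1, emb_ne (Ne.symm hmk)]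
    · simp [one1, hi])
  have hAB : A * B = D.zT * (B * A) := Subtype.ext (by
    show D.q (emb m (1, 0)) * D.q (emb m (0, 1)) = D.z * (D.q (emb m (0, 1)) * D.q (emb m (1, 0)))
    have e := D.q_conj (emb m (1, 0)) (emb m (0, 1))
    rw [om_emb, emb_self, det2_basis, D.zz_one, mul_inv_eq_iff_eq_mul] at e
    rw [e, mul_assoc])
  obtain ⟨z, -, -, hz, -, -⟩ := CfsgThreeTrans.M22.exists_zeta U.hF
  obtain ⟨v, hv, -⟩ := Geom.exists_normalised U.hF 1 (fun _ => rfl) hz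
  obtain ⟨g, hg⟩ := D.clsU_conj U hv hz
  have hA3 : A ^ 3 = 1 := Subtype.ext (D.q_cube _)
  have hB3 : B ^ 3 = 1 := Subtype.ext (D.q_cube _)
  have hKA : Commute K A := Subtype.ext (hK _).eq
  have hKB : Commute K B := Subtype.ext (hK _).eq
  have hKz : Commute K D.zT := Subtype.ext ((D.sg_acts (one1 k)).1.cz).eq
  have hAz : Commute A D.zT := Subtype.ext (D.q_z _).eq
  have hBz : Commute B D.zT := Subtype.ext (D.q_z _).eq
  -- the pair over the class
  obtain ⟨a, b, ha, hb, hKa, hKb, haz, hbz, hab⟩ : ∃ a b : D.TC ⧸ D.NT, a ∈ D.UU ∧ b ∈ D.UU ∧ Commute (D.mkT K) a ∧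
      Commute (D.mkT K) b ∧ Commute a D.zb ∧ Commute b D.zb ∧ a * b = (g⁻¹ * D.clsU U hv hz * g) * (b * a) := by
    rcases hg with r | r
    · refine ⟨D.mkT A, D.mkT B, D.three_mem hA3, D.three_mem hB3, hKA.map _, hKB.map _, hAz.map _, hBz.map _, ?_⟩
      rw [r, show g⁻¹ * (g * D.zb * g⁻¹) * g = D.zb by group, zb, ← map_mul, ← map_mul, ← map_mul, hAB]
    · refine ⟨D.mkT B, D.mkT A, D.three_mem hB3, D.three_mem hA3, hKB.map _, hKA.map _, hBz.map _, hAz.map _, ?_⟩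
      rw [r, show g⁻¹ * (g * D.zb⁻¹ * g⁻¹) * g = D.zb⁻¹ by group, zb, eq_inv_mul_iff_mul_eq, ← map_mul, ← map_mul,
        ← map_mul, hAB]
  let e : D.UU ≃* Cfsg.PSU 6 U.F 2 := U.e
  set c : D.TC ⧸ D.NT := D.clsU U hv hz
  have hcz : ∀ x, Commute x D.zb → Commute (g * x * g⁻¹) c := fun x hx => by
    have hx' : Commute (g * x * g⁻¹) (g * D.zb * g⁻¹) := hx.map (MulAut.conj g).toMonoidHom
    rcases hg with r | r <;> rw [r]
    · exact hx'
    · rw [← conj_inv]; exact hx'.inv_right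
  set cU : D.UU := e.symm (Geom.cls U.hF hv hz)
  have hcU : (cU : D.TC ⧸ D.NT) = c := rfl
  have hn : ∀ x ∈ D.UU, g * x * g⁻¹ ∈ D.UU := fun x hx => (inferInstance : D.UU.Normal).conj_mem x hx g
  set kU : D.UU := ⟨g * D.mkT K * g⁻¹, hn _ hKL⟩
  set aU : D.UU := ⟨g * a * g⁻¹, hn _ ha⟩
  set bU : D.UU := ⟨g * b * g⁻¹, hn _ hb⟩
  have K1 : D.mkT K ≠ 1 := fun q => by
    rcases D.mk_eq (a := 1) (b := K) (by rw [map_one]; exact q.symm) with r | r
    · exact (D.sg_mem k).sq.2 r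
    · rw [Subgroup.coe_one, one_mul] at r
      have := congrFun (D.sg_inj (show D.sg (one1 k) = D.sg (one1 0) from r)) 0
      simp [one1, Ne.symm hk0] at this
  have ecls : e cU = Geom.cls U.hF hv hz := e.apply_symm_apply _
  obtain ⟨w, w0, ww, ew⟩ := Geom.small_rank U.hF hv hz (k := e kU) (a := e aU) (b := e bU)
    (by rw [← map_mul, show kU * kU = 1 from Subtype.ext (by
          show g * D.mkT K * g⁻¹ * (g * D.mkT K * g⁻¹) = 1
          rw [show g * D.mkT K * g⁻¹ * (g * D.mkT K * g⁻¹) = g * (D.mkT K * D.mkT K) * g⁻¹ by group, ← map_mul,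
            show K * K = 1 from Subtype.ext (D.sg_sq _), map_one, mul_one, mul_inv_cancel]), map_one])
    (fun q => K1 (conj_eq_one_iff.mp (congrArg Subtype.val ((MulEquiv.map_eq_one_iff e).mp q) : g * D.mkT K * g⁻¹ = 1)))
    (by rw [← ecls]; exact (show Commute kU cU from Subtype.ext (hcz _ (hKz.map D.mkT)).eq).map e)
    (by rw [← ecls]; exact (show Commute aU cU from Subtype.ext (hcz _ haz).eq).map e)
    (by rw [← ecls]; exact (show Commute bU cU from Subtype.ext (hcz _ hbz).eq).map e)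
    ((show Commute kU aU from Subtype.ext (hKa.map (MulAut.conj g).toMonoidHom).eq).map e)
    ((show Commute kU bU from Subtype.ext (hKb.map (MulAut.conj g).toMonoidHom).eq).map e)
    (by
      rw [← ecls, ← map_mul, ← map_mul, ← map_mul]
      refine congrArg e (Subtype.ext ?_)
      show g * a * g⁻¹ * (g * b * g⁻¹) = c * (g * b * g⁻¹ * (g * a * g⁻¹))
      rw [show g * a * g⁻¹ * (g * b * g⁻¹) = g * (a * b) * g⁻¹ by group, hab]
      group)
  -- move it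
  let γ : MulAut D.UU := MulAut.conjNormal (D.mkT h * g⁻¹)
  obtain ⟨w', w0', ww', ew'⟩ := Geom.aut_tu U.hF (e.symm.trans (γ.trans e)) ww w0
  refine ⟨w', w0', ww', ?_⟩
  rw [← ew', ← ew]
  show e _ = e (γ (e.symm (e kU)))
  rw [e.symm_apply_apply]
  refine congrArg e (Subtype.ext ?_)
  rw [MulAut.conjNormal_apply]
  show D.mkT u = D.mkT h * g⁻¹ * (g * D.mkT K * g⁻¹) * (D.mkT h * g⁻¹)⁻¹
  rw [eu, map_mul, map_mul, map_inv]
  group

/-- A member is determined by its image. -/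
theorem member_inj {u u' : D.TC} (hm : D.Mem (u : G)) (hne : (u : G) ≠ D.tt) (hm' : D.Mem (u' : G))
    (e : D.mkT u = D.mkT u') : u = u' := by
  rcases D.mk_eq e with r | r
  · exact (Subtype.ext r).symm
  exfalso
  obtain ⟨h, k, hk0, hu⟩ := D.shape hm (D.mem_TC.mp u.2) hne
  have e2 : (h : G)⁻¹ * (u' : G) * h = D.sg (one1 k) * D.sg (one1 0) := by
    rw [r, hu, show (h : G)⁻¹ * ((h : G) * D.sg (one1 k) * (h : G)⁻¹ * D.tt) * h =
      D.sg (one1 k) * ((h : G)⁻¹ * (D.tt * h)) by group, ← (D.mem_TC.mp h.2).eq, inv_mul_cancel_left]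
    rfl
  rw [D.sg_mul] at e2
  obtain ⟨k', hk'⟩ := D.mem_class (y := (h : G)⁻¹ * (u' : G) * h) (by simpa using hm'.conj (h : G)⁻¹)
    (e2 ▸ (D.sg_acts _).1.cz)
  rw [e2] at hk'
  exact two_signs k k' hk0 (sB_inj (hk'.unique (D.img_acts (D.sg_acts _))))

/-- Every point has a member. -/
theorem member_lift (U : UData D) {x : Fin 6 → U.F} (x0 : x ≠ 0) (xx : Cfsg.hermForm 6 U.F 2 x x = 0) :
    ∃ (u : D.TC) (hL : u ∈ D.LL), D.Mem (u : G) ∧ (u : G) ≠ D.tt ∧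
      U.e ⟨D.mkT u, hL⟩ = QuotientGroup.mk' (Subgroup.center (Cfsg.SU 6 U.F 2)) (tu U.hF x) := by
  haveI := D.UU_normal
  let e : D.UU ≃* Cfsg.PSU 6 U.F 2 := U.e
  obtain ⟨hs, hsL⟩ := D.sign_mem 1
  set K : D.TC := ⟨D.sg (one1 1), hs⟩
  have hne : D.sg (one1 1) ≠ D.tt := fun q => by
    have := congrFun (D.sg_inj (show D.sg (one1 1) = D.sg (one1 0) from q)) 0
    simp [one1] at this
  obtain ⟨hKL, w, w0, ww, ew⟩ := D.transv U (u := K) (D.sg_mem 1) hne
  obtain ⟨k, hk⟩ := CfsgLib.UnitaryTransConj.su_trans U.hF (by norm_num) w0 x0 ww xx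
  obtain ⟨g, hg⟩ : ∃ g : D.TC, D.mkT g = (e.symm (QuotientGroup.mk' _ k) : D.TC ⧸ D.NT) := D.mk_surj _
  have hL : g * K * g⁻¹ ∈ D.LL := D.LL_normal.conj_mem _ hKL g
  refine ⟨g * K * g⁻¹, hL, (D.sg_mem 1).conj g, fun q => hne ?_, ?_⟩
  · have q' : (g : G) * D.sg (one1 1) * (g : G)⁻¹ = D.tt := q
    calc D.sg (one1 1) = (g : G)⁻¹ * ((g : G) * D.sg (one1 1) * (g : G)⁻¹) * g := by group
      _ = (g : G)⁻¹ * (D.tt * g) := by rw [q']; group
      _ = D.tt := by rw [← (D.mem_TC.mp g.2).eq, inv_mul_cancel_left]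
  · set kk : D.UU := e.symm (QuotientGroup.mk' _ k)
    have : (⟨D.mkT (g * K * g⁻¹), hL⟩ : D.UU) = kk * ⟨D.mkT K, hKL⟩ * kk⁻¹ := Subtype.ext (by
      show D.mkT (g * K * g⁻¹) = (kk : D.TC ⧸ D.NT) * D.mkT K * ((kk : D.TC ⧸ D.NT))⁻¹
      rw [map_mul, map_mul, map_inv, hg])
    refine (congrArg e this).trans ?_
    rw [map_mul, map_mul, map_inv, e.apply_symm_apply, show e ⟨D.mkT K, hKL⟩ = _ from ew, ← map_mul, ← map_inv,
      ← map_mul, tu_conj U.hF k ww, hk]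

end Setting

end CfsgLib.Fi22Loc
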